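import Cfsg.Agent.Lib.GeomClasses.DecompMax.Duals

/-! The stabiliser of a decomposition into members of dimension at least two is maximal. -/

set_option autoImplicit false
set_option linter.unusedSimpArgs false
set_option linter.unusedSectionVars false

namespace CfsgLib.GeomClasses.DecompMax

open Matrix Decomp
open scoped MatrixGroups

variable {ι : Type} [Fintype ι] [DecidableEq ι] {F : Type*} [Field F] {t m : ℕ}
  {D : Fin t → Submodule F (ι → F)}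

/-- All multiples of the transvection lie in `M`. -/
def TvLine (M : Subgroup (GL ι F)) (w ψ : ι → F) : Prop :=
  ψ ⬝ᵥ w = 0 ∧ ∀ A : F, tv w (A • ψ) ∈ M

theorem TvLine.mem {M : Subgroup (GL ι F)} {w ψ : ι → F} (h : TvLine M w ψ) : tv w ψ ∈ M := by
  simpa using h.2 1

theorem TvLine.conj {M : Subgroup (GL ι F)} {w ψ : ι → F} (h : TvLine M w ψ) {g : GL ι F} (hg : g ∈ M) :
    TvLine M ((g : Matrix ι ι F) *ᵥ w) (ψ ᵥ* ((g⁻¹ : GL ι F) : Matrix ι ι F)) := by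
  refine ⟨by rw [← dotProduct_mulVec, gl_inv_mulVec_mulVec, h.1], fun A => ?_⟩
  have := M.mul_mem (M.mul_mem hg (h.2 A)) (M.inv_mem hg)
  rwa [conj_tv g (by simp [h.1]), smul_vecMul] at this

theorem TvLine.sub_right {M : Subgroup (GL ι F)} {w ψ χ : ι → F} (h : TvLine M w ψ) (h' : TvLine M w χ) :
    TvLine M w (ψ - χ) := by
  refine ⟨by rw [sub_dotProduct, h.1, h'.1, sub_zero], fun A => ?_⟩
  have := M.mul_mem (h.2 A) (h'.2 (-A))
  rwa [tv_mul_tv_right (by simp [h.1]) (by simp [h'.1]), neg_smul, ← sub_eq_add_neg, ← smul_sub] at this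

theorem TvLine.sub_left {M : Subgroup (GL ι F)} {w v ψ : ι → F} (h : TvLine M w ψ) (h' : TvLine M v ψ) :
    TvLine M (w - v) ψ := by
  refine ⟨by rw [dotProduct_sub, h.1, h'.1, sub_zero], fun A => ?_⟩
  have := M.mul_mem (h.2 A) (M.inv_mem (h'.2 A))
  rwa [tv_inv (by simp [h'.1]), tv_mul_tv_left (by simp [h.1]) (by simp [h'.1]), ← sub_eq_add_neg] at this

theorem TvLine.smul_left {M : Subgroup (GL ι F)} {w ψ : ι → F} (h : TvLine M w ψ) (a : F) :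
    TvLine M (a • w) ψ := by
  refine ⟨by rw [dotProduct_smul, h.1, smul_zero], fun A => ?_⟩
  rw [tv_smul_comm (by simp [h.1]), smul_smul]
  exact h.2 _

theorem TvLine.smul_right {M : Subgroup (GL ι F)} {w ψ : ι → F} (h : TvLine M w ψ) (a : F) :
    TvLine M w (a • ψ) :=
  ⟨by rw [smul_dotProduct, h.1, smul_zero], fun A => by rw [smul_smul]; exact h.2 _⟩

theorem TvLine.add_right {M : Subgroup (GL ι F)} {w ψ χ : ι → F} (h : TvLine M w ψ) (h' : TvLine M w χ) :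
    TvLine M w (ψ + χ) := by
  have := h.sub_right (h'.smul_right (-1))
  rwa [neg_one_smul, sub_neg_eq_add] at this

theorem TvLine.add_left {M : Subgroup (GL ι F)} {w v ψ : ι → F} (h : TvLine M w ψ) (h' : TvLine M v ψ) :
    TvLine M (w + v) ψ := by
  have := h.sub_left (h'.smul_left (-1))
  rwa [neg_one_smul, sub_neg_eq_add] at this

/-- A transvection from one member to another. -/
def Crossing (hD : Cfsg.Geo.IsMDecomposition m D) (M : Subgroup (GL ι F)) (j i : Fin t) : Prop :=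
  ∃ u χ, u ∈ D j ∧ u ≠ 0 ∧ IsDual hD i χ ∧ χ ≠ 0 ∧ TvLine M u χ

variable {M : Subgroup (GL ι F)}

/-- A transvection centred in a member whose axis sees another member gives a crossing. -/
theorem crossing_of_centre (hD : Cfsg.Geo.IsMDecomposition m D) (hm : 2 ≤ m)
    (hH : Cfsg.Geo.decompositionStabilizer D ⊓ Cfsg.Geo.specialLinear ι F ≤ M)
    {j : Fin t} {u ψ : ι → F} (hu : u ∈ D j) (hu0 : u ≠ 0) (h : TvLine M u ψ)
    {i : Fin t} (hij : i ≠ j) {x : ι → F} (hx : x ∈ D i) (hψx : ψ ⬝ᵥ x ≠ 0) :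
    ∃ j i, j ≠ i ∧ Crossing hD M j i := by
  obtain ⟨a, ha, hax⟩ := exists_not_mem_span hD hm i x
  obtain ⟨χ, hχ, hχa, hχ0⟩ := exists_dual hD ha (W := Submodule.span F {x})
    (by rw [Submodule.span_le, Set.singleton_subset_iff]; exact hx) hax
  have hχx : χ ⬝ᵥ x = 0 := hχ0 x (Submodule.mem_span_singleton_self x)
  have hg := hH (tv_block_mem hD hx hχ hχx)
  have hχu : χ ⬝ᵥ u = 0 := hχ.eq_zero_of_mem (Ne.symm hij) hu
  have h' := h.conj hg
  have e1 : (tv x χ : Matrix ι ι F) *ᵥ u = u := by rw [tv_mulVec hχx, hχu, zero_smul, add_zero]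
  have e2 : ψ ᵥ* (((tv x χ)⁻¹ : GL ι F) : Matrix ι ι F) = ψ - (ψ ⬝ᵥ x) • χ := by
    rw [tv_inv hχx, tv_val (by simp [hχx]), vecMul_add, vecMul_one, vecMul_vecMulVec, dotProduct_neg,
      neg_smul, ← sub_eq_add_neg]
  rw [e1, e2] at h'
  refine ⟨j, i, Ne.symm hij, u, (ψ ⬝ᵥ x) • χ, hu, hu0, hχ.smul _, smul_ne_zero hψx fun e => ?_, ?_⟩
  · rw [e, zero_dotProduct] at hχa
    exact zero_ne_one hχa
  · have := h.sub_right h'
    rwa [sub_sub_cancel] at this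

/-- A good member gives a crossing. -/
theorem crossing_of_good (hD : Cfsg.Geo.IsMDecomposition m D) (hm : 2 ≤ m)
    (hH : Cfsg.Geo.decompositionStabilizer D ⊓ Cfsg.Geo.specialLinear ι F ≤ M)
    {w ψ : ι → F} (h : TvLine M w ψ) {j : Fin t} (hwj : comp hD j w ≠ 0)
    {u : ι → F} (hu : u ∈ D j) (hψu : ψ ⬝ᵥ u = 0) (huw : u ∉ Submodule.span F {comp hD j w})
    {i : Fin t} (hij : i ≠ j) {x : ι → F} (hx : x ∈ D i) (hψx : ψ ⬝ᵥ x ≠ 0) :
    ∃ j i, j ≠ i ∧ Crossing hD M j i := by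
  have hwu : comp hD j w ∉ Submodule.span F {u} := fun hmem => by
    obtain ⟨c, hc⟩ := Submodule.mem_span_singleton.1 hmem
    have hc0 : c ≠ 0 := fun e => hwj (by rw [← hc, e, zero_smul])
    exact huw (Submodule.mem_span_singleton.2 ⟨c⁻¹, by rw [← hc, smul_smul, inv_mul_cancel₀ hc0, one_smul]⟩)
  obtain ⟨φ, hφ, hφw, hφ0⟩ := exists_dual hD (comp_mem hD j w) (W := Submodule.span F {u})
    (by rw [Submodule.span_le, Set.singleton_subset_iff]; exact hu) hwu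
  have hφu : φ ⬝ᵥ u = 0 := hφ0 u (Submodule.mem_span_singleton_self u)
  have h' := h.conj (hH (tv_block_mem hD hu hφ hφu))
  have e1 : (tv u φ : Matrix ι ι F) *ᵥ w = w + u := by rw [tv_mulVec hφu, hφ w, hφw, one_smul]
  have e2 : ψ ᵥ* (((tv u φ)⁻¹ : GL ι F) : Matrix ι ι F) = ψ := by
    rw [tv_inv hφu, tv_val (by simp [hφu]), vecMul_add, vecMul_one, vecMul_vecMulVec, dotProduct_neg,
      hψu, neg_zero, zero_smul, add_zero]
  rw [e1, e2] at h'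
  have hd := h'.sub_left h
  rw [add_sub_cancel_left] at hd
  exact crossing_of_centre hD hm hH hu (fun e => huw (by rw [e]; exact Submodule.zero_mem _)) hd hij hx hψx

/-- An element outside the stabiliser gives a crossing. -/
theorem exists_crossing [Fintype F] (hD : Cfsg.Geo.IsMDecomposition m D) (hm : 2 ≤ m)
    (ht : 3 ≤ t ∨ 3 ≤ m ∨ 4 ≤ Fintype.card F)
    (hmq : m = 2 → 3 ≤ Fintype.card F)
    (hH : Cfsg.Geo.decompositionStabilizer D ⊓ Cfsg.Geo.specialLinear ι F ≤ M)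
    {g : GL ι F} (hg : g ∈ M) (hgs : g ∉ Cfsg.Geo.decompositionStabilizer D) :
    ∃ j i, j ≠ i ∧ Crossing hD M j i := by
  classical
  obtain ⟨i₀, v, hv, hsupp⟩ := exists_two_le_supp_of_notMem hD hgs
  have hv0 : v ≠ 0 := by
    rintro rfl
    obtain ⟨a, ha⟩ := Finset.card_pos.1 (show 0 < (supp hD ((g : Matrix ι ι F) *ᵥ 0)).card by omega)
    exact (mem_supp hD).1 ha (by simp)
  obtain ⟨a, ha, hav⟩ := exists_not_mem_span hD hm i₀ v
  obtain ⟨φ, hφ, hφa, hφ0⟩ := exists_dual hD ha (W := Submodule.span F {v})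
    (by rw [Submodule.span_le, Set.singleton_subset_iff]; exact hv) hav
  have hφv : φ ⬝ᵥ v = 0 := hφ0 v (Submodule.mem_span_singleton_self v)
  have hline : TvLine M v φ := ⟨hφv, fun A => hH (tv_block_mem hD hv (hφ.smul A) (by simp [hφv]))⟩
  have h := hline.conj hg
  set w := (g : Matrix ι ι F) *ᵥ v with hw
  set ψ := φ ᵥ* ((g⁻¹ : GL ι F) : Matrix ι ι F) with hψ
  have hψne : ∃ i, ∃ x ∈ D i, ψ ⬝ᵥ x ≠ 0 := by
    by_contra! hall
    have h1 : ψ ⬝ᵥ ((g : Matrix ι ι F) *ᵥ a) = 1 := by rw [hψ, ← dotProduct_mulVec, gl_inv_mulVec_mulVec, hφa]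
    rw [← sum_comp hD ((g : Matrix ι ι F) *ᵥ a), dotProduct_sum,
      Finset.sum_eq_zero fun i _ => hall i _ (comp_mem hD i _)] at h1
    exact zero_ne_one h1
  obtain ⟨j₁, hj₁, j₂, hj₂, hj⟩ := Finset.one_lt_card.1 (show 1 < (supp hD w).card by omega)
  have hj₁' := (mem_supp hD).1 hj₁
  have hj₂' := (mem_supp hD).1 hj₂
  -- (a) a supporting member killed by the axis
  have caseA : ∀ {w ψ : ι → F}, TvLine M w ψ → ∀ j, comp hD j w ≠ 0 → (∀ x ∈ D j, ψ ⬝ᵥ x = 0) →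
      (∃ i, ∃ x ∈ D i, ψ ⬝ᵥ x ≠ 0) → ∃ j i, j ≠ i ∧ Crossing hD M j i := by
    intro w ψ h j hwj hkill ⟨i, x, hx, hψx⟩
    obtain ⟨u, hu, huw⟩ := exists_not_mem_span hD hm j (comp hD j w)
    exact crossing_of_good hD hm hH h hwj hu (hkill u hu) huw (i := i)
      (fun e => hψx (hkill x (e ▸ hx))) hx hψx
  by_cases hA : ∃ j, comp hD j w ≠ 0 ∧ ∀ x ∈ D j, ψ ⬝ᵥ x = 0
  · obtain ⟨j, hwj, hkill⟩ := hA
    exact caseA h j hwj hkill hψne
  push Not at hA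
  -- (b) a good member
  by_cases hgood : ∃ j, comp hD j w ≠ 0 ∧ ∃ u ∈ D j, ψ ⬝ᵥ u = 0 ∧ u ∉ Submodule.span F {comp hD j w}
  · obtain ⟨j, hwj, u, hu, hψu, huw⟩ := hgood
    obtain ⟨j', hj', hne⟩ : ∃ j', comp hD j' w ≠ 0 ∧ j' ≠ j := by
      rcases eq_or_ne j₁ j with rfl | h1
      · exact ⟨j₂, hj₂', Ne.symm hj⟩
      · exact ⟨j₁, hj₁', h1⟩
    obtain ⟨x, hx, hψx⟩ := hA j' hj'
    exact crossing_of_good hD hm hH h hwj hu hψu huw hne hx hψx
  push Not at hgood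
  -- (c) two pseudo-reflections fixing the centre
  have hm2 : m = 2 := by
    by_contra hne
    obtain ⟨u, hu, hψu, huw⟩ := exists_ker_not_mem_span hD (by omega) j₁ (comp hD j₁ w) ψ
    exact huw (hgood j₁ hj₁' u hu hψu)
  by_cases ht3 : 3 ≤ t
  swap
  · -- two members: the two pseudo-reflections scale the two halves of the axis differently
    obtain ⟨u₁, hu₁, hu₁w⟩ := exists_not_mem_span hD hm j₁ (comp hD j₁ w)
    obtain ⟨φ₁, hφ₁, hφ₁u, hφ₁0⟩ := exists_dual hD hu₁ (W := Submodule.span F {comp hD j₁ w})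
      (by rw [Submodule.span_le, Set.singleton_subset_iff]; exact comp_mem hD j₁ w) hu₁w
    have hφ₁w : φ₁ ⬝ᵥ w = 0 := by rw [hφ₁ w]; exact hφ₁0 _ (Submodule.mem_span_singleton_self _)
    have hψu₁ : ψ ⬝ᵥ u₁ ≠ 0 := fun e => hu₁w (hgood j₁ hj₁' u₁ hu₁ e)
    obtain ⟨u₂, hu₂, hu₂w⟩ := exists_not_mem_span hD hm j₂ (comp hD j₂ w)
    obtain ⟨φ₂, hφ₂, hφ₂u, hφ₂0⟩ := exists_dual hD hu₂ (W := Submodule.span F {comp hD j₂ w})
      (by rw [Submodule.span_le, Set.singleton_subset_iff]; exact comp_mem hD j₂ w) hu₂w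
    have hφ₂w : φ₂ ⬝ᵥ w = 0 := by rw [hφ₂ w]; exact hφ₂0 _ (Submodule.mem_span_singleton_self _)
    have hq4 : 4 ≤ Fintype.card F := by omega
    obtain ⟨a, ha⟩ : ∃ a : Fˣ, a * a ≠ 1 := by
      obtain ⟨a, ha⟩ := IsCyclic.exists_ofOrder_eq_natCard (α := Fˣ)
      rw [Nat.card_units, Nat.card_eq_fintype_card] at ha
      exact ⟨a, fun e => pow_ne_one_of_lt_orderOf (x := a) two_ne_zero (by omega) (by rw [sq, e])⟩
    have hP : pr u₁ φ₁ hφ₁u a * pr u₂ φ₂ hφ₂u a⁻¹ ∈ M := by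
      refine hH ⟨Subgroup.mul_mem _ (pr_mem_stabilizer hD hu₁ hφ₁ _ _) (pr_mem_stabilizer hD hu₂ hφ₂ _ _),
        mem_specialLinear.2 ?_⟩
      rw [Units.val_mul, det_mul, pr_det, pr_det, Units.mul_inv]
    have h' := h.conj hP
    have e1 : ((pr u₁ φ₁ hφ₁u a * pr u₂ φ₂ hφ₂u a⁻¹ : GL ι F) : Matrix ι ι F) *ᵥ w = w := by
      rw [gl_mul_mulVec, pr_mulVec hφ₂u, hφ₂w, mul_zero, zero_smul, add_zero, pr_mulVec, hφ₁w, mul_zero,
        zero_smul, add_zero]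
    rw [e1] at h'
    have hd := h'.sub_right (h.smul_right (a : F))
    set ψ' := ψ ᵥ* (((pr u₁ φ₁ hφ₁u a * pr u₂ φ₂ hφ₂u a⁻¹)⁻¹ : GL ι F) : Matrix ι ι F) - (a : F) • ψ with hψ'
    have hdot : ∀ x, φ₁ ⬝ᵥ x = 0 ∨ φ₂ ⬝ᵥ x = 0 → ψ' ⬝ᵥ x = (1 - (a : F)) * (ψ ⬝ᵥ x) +
        (((a : F))⁻¹ - 1) * (φ₁ ⬝ᵥ x) * (ψ ⬝ᵥ u₁) + (((a : F)) - 1) * (φ₂ ⬝ᵥ x) * (ψ ⬝ᵥ u₂) := by
      intro x hx
      rw [hψ', sub_dotProduct, ← dotProduct_mulVec, smul_dotProduct, _root_.mul_inv_rev, pr_inv, pr_inv, inv_inv,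
        gl_mul_mulVec, pr_mulVec, pr_mulVec]
      have h12 : φ₂ ⬝ᵥ u₁ = 0 := hφ₂.eq_zero_of_mem hj hu₁
      simp only [dotProduct_add, dotProduct_smul, smul_eq_mul, h12, mul_zero, add_zero,
        Units.val_inv_eq_inv_val]
      ring
    refine caseA hd j₂ hj₂' (fun x hx => ?_) ⟨j₁, u₁, hu₁, ?_⟩
    · have h1 : φ₁ ⬝ᵥ x = 0 := hφ₁.eq_zero_of_mem (Ne.symm hj) hx
      have hxu : x - (φ₂ ⬝ᵥ x) • u₂ ∈ D j₂ := (D j₂).sub_mem hx ((D j₂).smul_mem _ hu₂)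
      have h2 : ψ ⬝ᵥ (x - (φ₂ ⬝ᵥ x) • u₂) = 0 := by
        by_contra hne
        -- two vectors of the plane outside the kernel of the axis differ by a multiple of the centre
        set y := x - (φ₂ ⬝ᵥ x) • u₂ with hy
        set z := (ψ ⬝ᵥ u₂) • y - (ψ ⬝ᵥ y) • u₂ with hz
        have hzD : z ∈ D j₂ := (D j₂).sub_mem ((D j₂).smul_mem _ hxu) ((D j₂).smul_mem _ hu₂)
        have hzψ : ψ ⬝ᵥ z = 0 := by simp [hz, mul_comm]
        obtain ⟨r, hr⟩ := Submodule.mem_span_singleton.1 (hgood j₂ hj₂' z hzD hzψ)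
        have h3 : φ₂ ⬝ᵥ z = -(ψ ⬝ᵥ y) := by simp [hz, hy, hφ₂u]
        rw [← hr, dotProduct_smul, hφ₂0 _ (Submodule.mem_span_singleton_self _), smul_zero] at h3
        exact hne (neg_eq_zero.1 h3.symm)
      rw [dotProduct_sub, dotProduct_smul, smul_eq_mul, sub_eq_zero] at h2
      rw [hdot x (Or.inl h1), h1, h2]
      ring
    · have h2 : φ₂ ⬝ᵥ u₁ = 0 := hφ₂.eq_zero_of_mem hj hu₁
      rw [hdot u₁ (Or.inr h2), h2, hφ₁u]
      refine fun e => mul_ne_zero (sub_ne_zero.2 fun e' => ha (Units.ext ?_)) hψu₁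
        (show (((a : F))⁻¹ - (a : F)) * (ψ ⬝ᵥ u₁) = 0 by linear_combination e)
      field_simp at e'
      simpa [← sq] using e'.symm
  obtain ⟨l, hlj₁, hlj₂⟩ : ∃ l : Fin t, l ≠ j₁ ∧ l ≠ j₂ := by
    by_contra! hall
    have h1 : (Finset.univ : Finset (Fin t)) ⊆ {j₁, j₂} := fun o _ => by
      rcases eq_or_ne o j₁ with rfl | ho
      · simp
      · simp [hall o ho]
    have := (Finset.card_le_card h1).trans Finset.card_le_two
    rw [Finset.card_univ, Fintype.card_fin] at this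
    omega
  obtain ⟨u₁, hu₁, hu₁w⟩ := exists_not_mem_span hD hm j₁ (comp hD j₁ w)
  obtain ⟨φ₁, hφ₁, hφ₁u, hφ₁0⟩ := exists_dual hD hu₁ (W := Submodule.span F {comp hD j₁ w})
    (by rw [Submodule.span_le, Set.singleton_subset_iff]; exact comp_mem hD j₁ w) hu₁w
  have hφ₁w : φ₁ ⬝ᵥ w = 0 := by rw [hφ₁ w]; exact hφ₁0 _ (Submodule.mem_span_singleton_self _)
  have hψu₁ : ψ ⬝ᵥ u₁ ≠ 0 := fun e => hu₁w (hgood j₁ hj₁' u₁ hu₁ e)
  obtain ⟨u₂, hu₂, hu₂w⟩ := exists_not_mem_span hD hm l (comp hD l w)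
  obtain ⟨φ₂, hφ₂, hφ₂u, hφ₂0⟩ := exists_dual hD hu₂ (W := Submodule.span F {comp hD l w})
    (by rw [Submodule.span_le, Set.singleton_subset_iff]; exact comp_mem hD l w) hu₂w
  have hφ₂w : φ₂ ⬝ᵥ w = 0 := by rw [hφ₂ w]; exact hφ₂0 _ (Submodule.mem_span_singleton_self _)
  obtain ⟨a, ha⟩ : ∃ a : Fˣ, a ≠ 1 := by
    by_contra! hall
    have := Fintype.card_le_one_iff.2 fun a b : Fˣ => (hall a).trans (hall b).symm
    rw [Fintype.card_units] at this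
    have := hmq hm2
    omega
  have hP : pr u₁ φ₁ hφ₁u a * pr u₂ φ₂ hφ₂u a⁻¹ ∈ M := by
    refine hH ⟨Subgroup.mul_mem _ (pr_mem_stabilizer hD hu₁ hφ₁ _ _) (pr_mem_stabilizer hD hu₂ hφ₂ _ _),
      mem_specialLinear.2 ?_⟩
    rw [Units.val_mul, det_mul, pr_det, pr_det, Units.mul_inv]
  have h' := h.conj hP
  have e1 : ((pr u₁ φ₁ hφ₁u a * pr u₂ φ₂ hφ₂u a⁻¹ : GL ι F) : Matrix ι ι F) *ᵥ w = w := by
    rw [gl_mul_mulVec, pr_mulVec hφ₂u, hφ₂w, mul_zero, zero_smul, add_zero, pr_mulVec, hφ₁w, mul_zero,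
      zero_smul, add_zero]
  rw [e1] at h'
  have hd := h'.sub_right h
  set ψ' := ψ ᵥ* (((pr u₁ φ₁ hφ₁u a * pr u₂ φ₂ hφ₂u a⁻¹)⁻¹ : GL ι F) : Matrix ι ι F) - ψ with hψ'
  have hdot : ∀ x, φ₁ ⬝ᵥ x = 0 ∨ φ₂ ⬝ᵥ x = 0 → ψ' ⬝ᵥ x =
      (((a : F))⁻¹ - 1) * (φ₁ ⬝ᵥ x) * (ψ ⬝ᵥ u₁) + (((a : F)) - 1) * (φ₂ ⬝ᵥ x) * (ψ ⬝ᵥ u₂) := by
    intro x hx
    rw [hψ', sub_dotProduct, ← dotProduct_mulVec, _root_.mul_inv_rev, pr_inv, pr_inv, inv_inv,
      gl_mul_mulVec, pr_mulVec, pr_mulVec]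
    have h12 : φ₂ ⬝ᵥ u₁ = 0 := hφ₂.eq_zero_of_mem (Ne.symm hlj₁) hu₁
    simp only [dotProduct_add, dotProduct_smul, smul_eq_mul, h12, mul_zero, add_zero,
      Units.val_inv_eq_inv_val]
    ring
  refine caseA hd j₂ hj₂' (fun x hx => ?_) ⟨j₁, u₁, hu₁, ?_⟩
  · have h1 : φ₁ ⬝ᵥ x = 0 := hφ₁.eq_zero_of_mem (Ne.symm hj) hx
    have h2 : φ₂ ⬝ᵥ x = 0 := hφ₂.eq_zero_of_mem (Ne.symm hlj₂) hx
    rw [hdot x (Or.inl h1), h1, h2]
    ring
  · have h2 : φ₂ ⬝ᵥ u₁ = 0 := hφ₂.eq_zero_of_mem (Ne.symm hlj₁) hu₁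
    rw [hdot u₁ (Or.inr h2), h2, hφ₁u, mul_one, mul_zero, zero_mul, add_zero]
    exact mul_ne_zero (sub_ne_zero.2 fun e => ha (Units.ext (inv_eq_one.1 e))) hψu₁

/-- A crossing gives all transvections from one member to the other. -/
theorem Crossing.all (hD : Cfsg.Geo.IsMDecomposition m D) (hm : 2 ≤ m)
    (hH : Cfsg.Geo.decompositionStabilizer D ⊓ Cfsg.Geo.specialLinear ι F ≤ M)
    {j i : Fin t} (hji : j ≠ i) (h : Crossing hD M j i) {v χ' : ι → F} (hv : v ∈ D j)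
    (hχ' : IsDual hD i χ') : TvLine M v χ' := by
  obtain ⟨u, χ, hu, hu0, hχ, hχ0, hl⟩ := h
  -- vary the axis
  obtain ⟨x, hx, hχx⟩ : ∃ x ∈ D i, χ ⬝ᵥ x = 1 := by
    obtain ⟨y, hy⟩ : ∃ y, χ ⬝ᵥ y ≠ 0 := by
      by_contra! hall
      exact hχ0 (dot_ext fun y => by rw [hall y, zero_dotProduct])
    rw [hχ y] at hy
    exact ⟨(χ ⬝ᵥ comp hD i y)⁻¹ • comp hD i y, (D i).smul_mem _ (comp_mem hD i y),
      by rw [dotProduct_smul, smul_eq_mul, inv_mul_cancel₀ hy]⟩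
  have haxis : ∀ β, IsDual hD i β → TvLine M u β := by
    intro β hβ
    set β₁ := β - (β ⬝ᵥ x) • χ with hβ₁
    have hβ₁x : β₁ ⬝ᵥ x = 0 := by simp [hβ₁, hχx]
    have hd₁ : IsDual hD i β₁ := hβ.sub (hχ.smul _)
    have h' := hl.conj (hH (tv_block_mem hD hx hd₁ hβ₁x))
    have e1 : (tv x β₁ : Matrix ι ι F) *ᵥ u = u := by
      rw [tv_mulVec hβ₁x, hd₁.eq_zero_of_mem hji hu, zero_smul, add_zero]
    have e2 : χ ᵥ* (((tv x β₁)⁻¹ : GL ι F) : Matrix ι ι F) = χ - β₁ := by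
      rw [tv_inv hβ₁x, tv_val (by simp [hβ₁x]), vecMul_add, vecMul_one, vecMul_vecMulVec, dotProduct_neg,
        hχx, neg_one_smul, ← sub_eq_add_neg]
    rw [e1, e2] at h'
    have h1 := hl.sub_right h'
    rw [sub_sub_cancel] at h1
    have h2 := h1.add_right (hl.smul_right (β ⬝ᵥ x))
    rwa [hβ₁, sub_add_cancel] at h2
  -- vary the centre
  have hu' := haxis χ' hχ'
  obtain ⟨α, hα, hαu⟩ := exists_dual_one hD hu hu0
  set v₁ := v - (α ⬝ᵥ v) • u with hv₁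
  have hv₁α : α ⬝ᵥ v₁ = 0 := by simp [hv₁, hαu]
  have hv₁D : v₁ ∈ D j := (D j).sub_mem hv ((D j).smul_mem _ hu)
  have h' := hu'.conj (hH (tv_block_mem hD hv₁D hα hv₁α))
  have e1 : (tv v₁ α : Matrix ι ι F) *ᵥ u = u + v₁ := by rw [tv_mulVec hv₁α, hαu, one_smul]
  have e2 : χ' ᵥ* (((tv v₁ α)⁻¹ : GL ι F) : Matrix ι ι F) = χ' := by
    rw [tv_inv hv₁α, tv_val (by simp [hv₁α]), vecMul_add, vecMul_one, vecMul_vecMulVec, dotProduct_neg,
      hχ'.eq_zero_of_mem hji hv₁D, neg_zero, zero_smul, add_zero]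
  rw [e1, e2] at h'
  have h1 := h'.sub_left hu'
  rw [add_sub_cancel_left] at h1
  have h2 := h1.add_left (hu'.smul_left (α ⬝ᵥ v))
  rwa [hv₁, sub_add_cancel] at h2

/-- Crossings are transported by permutations of the members. -/
theorem Crossing.perm (hD : Cfsg.Geo.IsMDecomposition m D)
    (hH : Cfsg.Geo.decompositionStabilizer D ⊓ Cfsg.Geo.specialLinear ι F ≤ M)
    {j i : Fin t} (h : Crossing hD M j i) (σ : Equiv.Perm (Fin t)) : Crossing hD M (σ j) (σ i) := by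
  obtain ⟨u, χ, hu, hu0, hχ, hχ0, hl⟩ := h
  obtain ⟨g, hg, hgD⟩ := exists_perm_mem hD σ
  have hmap : ∀ k, (D k).map (Matrix.toLin' (g : Matrix ι ι F)) = D (σ k) := fun k => by
    apply Submodule.eq_of_le_of_finrank_eq
    · rintro _ ⟨x, hx, rfl⟩
      rw [Matrix.toLin'_apply]
      exact hgD k x hx
    · rw [← (Submodule.equivMapOfInjective _ (by
        simpa [Function.Injective] using gl_mulVec_injective g) (D k)).finrank_eq, hD.finrank_eq,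
        hD.finrank_eq]
  refine ⟨_, _, hgD j u hu, gl_mulVec_ne_zero g hu0, ?_, ?_, hl.conj (hH hg)⟩
  · intro y
    obtain ⟨x, rfl⟩ : ∃ x, y = (g : Matrix ι ι F) *ᵥ x := ⟨_, (gl_mulVec_inv_mulVec g y).symm⟩
    rw [comp_mulVec hD hmap i x, ← dotProduct_mulVec, ← dotProduct_mulVec, gl_inv_mulVec_mulVec,
      gl_inv_mulVec_mulVec]
    exact hχ x
  · intro e
    refine hχ0 (dot_ext fun x => ?_)
    have h1 : (χ ᵥ* ((g⁻¹ : GL ι F) : Matrix ι ι F)) ⬝ᵥ ((g : Matrix ι ι F) *ᵥ x) = χ ⬝ᵥ x := by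
      rw [← dotProduct_mulVec, gl_inv_mulVec_mulVec]
    rw [e, zero_dotProduct] at h1
    rw [← h1, zero_dotProduct]

theorem exists_perm_pair {t : ℕ} {a b c d : Fin t} (hab : a ≠ b) (hcd : c ≠ d) :
    ∃ σ : Equiv.Perm (Fin t), σ a = c ∧ σ b = d := by
  refine ⟨Equiv.swap (Equiv.swap a c b) d * Equiv.swap a c, ?_, by simp⟩
  simp only [Equiv.Perm.mul_apply, Equiv.swap_apply_left]
  refine Equiv.swap_apply_of_ne_of_ne (fun e => ?_) hcd
  exact hab ((Equiv.swap a c).injective (by rw [Equiv.swap_apply_left]; exact e))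

/-- The stabiliser with any element outside generates the special linear group. -/
theorem specialLinear_le_of_block [Fintype F] (hD : Cfsg.Geo.IsMDecomposition m D) (hm : 2 ≤ m)
    (ht : 3 ≤ t ∨ 3 ≤ m ∨ 4 ≤ Fintype.card F) (hmq : m = 2 → 3 ≤ Fintype.card F)
    (hH : Cfsg.Geo.decompositionStabilizer D ⊓ Cfsg.Geo.specialLinear ι F ≤ M)
    {g : GL ι F} (hg : g ∈ M) (hgs : g ∉ Cfsg.Geo.decompositionStabilizer D) :
    Cfsg.Geo.specialLinear ι F ≤ M := by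
  classical
  obtain ⟨j₀, i₀, hne, hc⟩ := exists_crossing hD hm ht hmq hH hg hgs
  have hall : ∀ j i, j ≠ i → ∀ v χ, v ∈ D j → IsDual hD i χ → TvLine M v χ := by
    intro j i hji v χ hv hχ
    obtain ⟨σ, hσ1, hσ2⟩ := exists_perm_pair hne hji
    have h := hc.perm hD hH σ
    rw [hσ1, hσ2] at h
    exact h.all hD hm hH hji hv hχ
  refine specialLinear_le_of_fullAxes_eq_top ?_
  rw [eq_top_iff]
  intro φ _
  rw [← sum_res hD φ]
  refine Submodule.sum_mem _ fun i _ => mem_fullAxes.2 fun v hv => ?_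
  set χ := res hD i φ
  have hχ : IsDual hD i χ := isDual_res hD i φ
  have hvi : χ ⬝ᵥ comp hD i v = 0 := by rw [← hχ v]; exact hv
  have key : ∀ s : Finset (Fin t), tv (∑ j ∈ s, comp hD j v) χ ∈ M ∧
      χ ⬝ᵥ (∑ j ∈ s, comp hD j v) = 0 := by
    intro s
    induction s using Finset.induction_on with
    | empty => simp [one_mem]
    | insert j s hj ih =>
      have h1 : χ ⬝ᵥ comp hD j v = 0 := by
        rcases eq_or_ne j i with rfl | hji
        · exact hvi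
        · exact hχ.eq_zero_of_mem hji (comp_mem hD j v)
      rw [Finset.sum_insert hj]
      refine ⟨?_, by rw [dotProduct_add, h1, ih.2, add_zero]⟩
      rw [← tv_mul_tv_left h1 ih.2]
      refine M.mul_mem ?_ ih.1
      rcases eq_or_ne j i with rfl | hji
      · exact hH (tv_block_mem hD (comp_mem hD j v) hχ h1)
      · exact (hall j i hji _ _ (comp_mem hD j v) hχ).mem
  have := (key Finset.univ).1
  rwa [sum_comp hD v] at this

end CfsgLib.GeomClasses.DecompMax
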