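import Cfsg.Agent.Lib.GeomClasses.Coords

/-! Functionals of the members of a decomposition and some elements of its stabiliser. -/

set_option autoImplicit false
set_option linter.unusedSimpArgs false
set_option linter.unusedSectionVars false

namespace CfsgLib.GeomClasses.DecompMax

open Matrix Decomp
open scoped MatrixGroups

variable {ι : Type} [Fintype ι] [DecidableEq ι] {F : Type*} [Field F] {t m : ℕ}
  {D : Fin t → Submodule F (ι → F)}

/-- The functional only sees the `i`-th component. -/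
def IsDual (hD : Cfsg.Geo.IsMDecomposition m D) (i : Fin t) (φ : ι → F) : Prop :=
  ∀ x, φ ⬝ᵥ x = φ ⬝ᵥ comp hD i x

/-- The restriction of a functional to the `i`-th member, extended by zero. -/
noncomputable def res (hD : Cfsg.Geo.IsMDecomposition m D) (i : Fin t) (φ : ι → F) : ι → F :=
  φ ᵥ* LinearMap.toMatrix' (comp hD i)

theorem res_dot (hD : Cfsg.Geo.IsMDecomposition m D) (i : Fin t) (φ x : ι → F) :
    res hD i φ ⬝ᵥ x = φ ⬝ᵥ comp hD i x := by
  rw [res, ← dotProduct_mulVec, LinearMap.toMatrix'_mulVec]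

theorem isDual_res (hD : Cfsg.Geo.IsMDecomposition m D) (i : Fin t) (φ : ι → F) :
    IsDual hD i (res hD i φ) := fun x => by
  rw [res_dot, res_dot, comp_of_mem hD (comp_mem hD i x)]

theorem dot_ext {φ ψ : ι → F} (h : ∀ x, φ ⬝ᵥ x = ψ ⬝ᵥ x) : φ = ψ :=
  funext fun i => by simpa using h (Pi.single i 1)

theorem sum_res (hD : Cfsg.Geo.IsMDecomposition m D) (φ : ι → F) : ∑ i, res hD i φ = φ := by
  refine dot_ext fun x => ?_
  rw [sum_dotProduct]
  simp only [res_dot]
  rw [← dotProduct_sum, sum_comp hD x]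

theorem IsDual.eq_zero_of_mem {hD : Cfsg.Geo.IsMDecomposition m D} {i j : Fin t} {φ : ι → F}
    (h : IsDual hD i φ) (hji : j ≠ i) {x : ι → F} (hx : x ∈ D j) : φ ⬝ᵥ x = 0 := by
  rw [h x, comp_of_mem_ne hD hji hx, dotProduct_zero]

theorem IsDual.smul {hD : Cfsg.Geo.IsMDecomposition m D} {i : Fin t} {φ : ι → F}
    (h : IsDual hD i φ) (a : F) : IsDual hD i (a • φ) := fun x => by
  rw [smul_dotProduct, smul_dotProduct, h x]

theorem IsDual.sub {hD : Cfsg.Geo.IsMDecomposition m D} {i : Fin t} {φ ψ : ι → F}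
    (h : IsDual hD i φ) (h' : IsDual hD i ψ) : IsDual hD i (φ - ψ) := fun x => by
  rw [sub_dotProduct, sub_dotProduct, h x, h' x]

/-- A functional of the `i`-th member separating a vector of it from a subspace. -/
theorem exists_dual (hD : Cfsg.Geo.IsMDecomposition m D) {i : Fin t} {W : Submodule F (ι → F)}
    {u : ι → F} (hu : u ∈ D i) (hW : W ≤ D i) (hnot : u ∉ W) :
    ∃ α, IsDual hD i α ∧ α ⬝ᵥ u = 1 ∧ ∀ w ∈ W, α ⬝ᵥ w = 0 := by
  obtain ⟨φ, hφu, hφW⟩ := exists_separating hnot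
  refine ⟨res hD i ((φ ⬝ᵥ u)⁻¹ • φ), isDual_res hD i _, ?_, fun w hw => ?_⟩
  · rw [res_dot, comp_of_mem hD hu, smul_dotProduct, smul_eq_mul, inv_mul_cancel₀ hφu]
  · rw [res_dot, comp_of_mem hD (hW hw), smul_dotProduct, hφW w hw, smul_zero]

theorem exists_dual_one (hD : Cfsg.Geo.IsMDecomposition m D) {i : Fin t} {u : ι → F} (hu : u ∈ D i)
    (hu0 : u ≠ 0) : ∃ α, IsDual hD i α ∧ α ⬝ᵥ u = 1 := by
  obtain ⟨α, h1, h2, -⟩ := exists_dual hD hu (W := ⊥) bot_le (by simpa using hu0)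
  exact ⟨α, h1, h2⟩

theorem exists_not_mem_span (hD : Cfsg.Geo.IsMDecomposition m D) (hm : 2 ≤ m) (j : Fin t) (w : ι → F) :
    ∃ u ∈ D j, u ∉ Submodule.span F {w} := by
  by_contra! h
  have h1 : D j ≤ Submodule.span F {w} := fun x hx => h x hx
  have h2 : Module.finrank F (Submodule.span F ({w} : Set (ι → F))) ≤ 1 := by
    rcases eq_or_ne w 0 with rfl | hw
    · rw [Submodule.span_zero_singleton, finrank_bot]; exact Nat.zero_le 1
    · rw [finrank_span_singleton hw]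
  have := (Submodule.finrank_mono h1).trans h2
  rw [hD.finrank_eq] at this
  omega

/-- Inside a member of dimension at least three a functional vanishes outside a given line. -/
theorem exists_ker_not_mem_span (hD : Cfsg.Geo.IsMDecomposition m D) (hm : 3 ≤ m) (j : Fin t) (w ψ : ι → F) :
    ∃ u ∈ D j, ψ ⬝ᵥ u = 0 ∧ u ∉ Submodule.span F {w} := by
  by_contra! h
  obtain ⟨a, ha, haw⟩ := exists_not_mem_span hD (by omega) j w
  have hψa : ψ ⬝ᵥ a ≠ 0 := fun h0 => haw (h a ha h0)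
  have h1 : D j ≤ Submodule.span F {w, a} := fun x hx => by
    have hker := h (x - (ψ ⬝ᵥ x / ψ ⬝ᵥ a) • a) ((D j).sub_mem hx ((D j).smul_mem _ ha))
      (by simp [dotProduct_sub, dotProduct_smul, hψa])
    obtain ⟨c, hc⟩ := Submodule.mem_span_singleton.1 hker
    exact Submodule.mem_span_pair.2 ⟨c, ψ ⬝ᵥ x / ψ ⬝ᵥ a, by rw [hc]; abel⟩
  classical
  have h2 : Module.finrank F (Submodule.span F ({w, a} : Set (ι → F))) ≤ 2 := by
    have := finrank_span_finset_le_card (R := F) ({w, a} : Finset (ι → F))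
    rw [Finset.coe_pair] at this
    exact this.trans Finset.card_le_two
  have := (Submodule.finrank_mono h1).trans h2
  rw [hD.finrank_eq] at this
  omega

theorem mem_stabilizer_of_dual (hD : Cfsg.Geo.IsMDecomposition m D) {g : GL ι F}
    (h : ∀ i, ∀ x ∈ D i, (g : Matrix ι ι F) *ᵥ x ∈ D i) : g ∈ Cfsg.Geo.decompositionStabilizer D :=
  mem_stabilizer_of_image hD fun i => ⟨i, h i⟩

theorem tv_block_mem (hD : Cfsg.Geo.IsMDecomposition m D) {i : Fin t} {v φ : ι → F} (hv : v ∈ D i)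
    (hφ : IsDual hD i φ) (h : φ ⬝ᵥ v = 0) :
    tv v φ ∈ Cfsg.Geo.decompositionStabilizer D ⊓ Cfsg.Geo.specialLinear ι F := by
  refine ⟨mem_stabilizer_of_dual hD fun j x hx => ?_, tv_mem_specialLinear v φ⟩
  rw [tv_mulVec h]
  rcases eq_or_ne j i with rfl | hji
  · exact (D j).add_mem hx ((D j).smul_mem _ hv)
  · rw [hφ.eq_zero_of_mem hji hx, zero_smul, add_zero]
    exact hx

/-- The pseudo-reflection with centre `u`, axis `φ` and eigenvalue `a`. -/
noncomputable def pr (u φ : ι → F) (h : φ ⬝ᵥ u = 1) (a : Fˣ) : GL ι F :=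
  ⟨1 + vecMulVec (((a : F) - 1) • u) φ, 1 + vecMulVec (((a : F)⁻¹ - 1) • u) φ, by
    refine Matrix.ext_of_mulVec_single fun i => ?_
    simp only [← mulVec_mulVec, add_mulVec, one_mulVec, vecMulVec_mulVec, dotProduct_add, mulVec_add,
      dotProduct_smul, h]
    funext k
    have := a.ne_zero
    simp
    field_simp
    ring, by
    refine Matrix.ext_of_mulVec_single fun i => ?_
    simp only [← mulVec_mulVec, add_mulVec, one_mulVec, vecMulVec_mulVec, dotProduct_add, mulVec_add,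
      dotProduct_smul, h]
    funext k
    have := a.ne_zero
    simp
    field_simp
    ring⟩

theorem pr_mulVec {u φ : ι → F} (h : φ ⬝ᵥ u = 1) (a : Fˣ) (x : ι → F) :
    (pr u φ h a : Matrix ι ι F) *ᵥ x = x + (((a : F) - 1) * (φ ⬝ᵥ x)) • u := by
  show (1 + vecMulVec (((a : F) - 1) • u) φ) *ᵥ x = _
  rw [add_mulVec, one_mulVec, vecMulVec_mulVec]
  funext k
  simp
  ring

theorem pr_inv {u φ : ι → F} (h : φ ⬝ᵥ u = 1) (a : Fˣ) : (pr u φ h a)⁻¹ = pr u φ h a⁻¹ := by
  apply Units.ext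
  show 1 + vecMulVec (((a : F)⁻¹ - 1) • u) φ = 1 + vecMulVec ((((a⁻¹ : Fˣ) : F) - 1) • u) φ
  rw [Units.val_inv_eq_inv_val]

theorem pr_det {u φ : ι → F} (h : φ ⬝ᵥ u = 1) (a : Fˣ) : (pr u φ h a : Matrix ι ι F).det = a := by
  show (1 + vecMulVec (((a : F) - 1) • u) φ).det = _
  rw [vecMulVec_eq Unit, det_one_add_replicateCol_mul_replicateRow, dotProduct_smul, h]
  simp

theorem pr_mem_stabilizer (hD : Cfsg.Geo.IsMDecomposition m D) {i : Fin t} {u φ : ι → F} (hu : u ∈ D i)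
    (hφ : IsDual hD i φ) (h : φ ⬝ᵥ u = 1) (a : Fˣ) :
    pr u φ h a ∈ Cfsg.Geo.decompositionStabilizer D := by
  refine mem_stabilizer_of_dual hD fun j x hx => ?_
  rw [pr_mulVec]
  rcases eq_or_ne j i with rfl | hji
  · exact (D j).add_mem hx ((D j).smul_mem _ hu)
  · rw [hφ.eq_zero_of_mem hji hx, mul_zero, zero_smul, add_zero]
    exact hx

/-- Every permutation of the members is induced with determinant one. -/
theorem exists_perm_mem (hD : Cfsg.Geo.IsMDecomposition m D) (σ : Equiv.Perm (Fin t)) :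
    ∃ h ∈ Cfsg.Geo.decompositionStabilizer D ⊓ Cfsg.Geo.specialLinear ι F,
      ∀ i, ∀ x ∈ D i, (h : Matrix ι ι F) *ᵥ x ∈ D (σ i) := by
  classical
  obtain ⟨e, c, he, hce, hce0, hcomp, hsum⟩ := exists_coords hD
  let Z : Equiv.Perm (Fin t) → Matrix ι ι F := fun σ => ∑ i, ∑ k, vecMulVec (e (σ i) k) (c i k)
  have hZ : ∀ σ x, Z σ *ᵥ x = ∑ i, ∑ k, (c i k ⬝ᵥ x) • e (σ i) k := fun σ x => by
    simp only [Z, sum_mulVec, vecMulVec_mulVec, op_smul_eq_smul]
  have hcZ : ∀ σ x i k, c (σ i) k ⬝ᵥ (Z σ *ᵥ x) = c i k ⬝ᵥ x := fun σ x i k => by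
    rw [hZ, dotProduct_sum, Finset.sum_eq_single i, dotProduct_sum, Finset.sum_eq_single k,
      dotProduct_smul, hce, smul_eq_mul, mul_one]
    · intro l _ hl
      rw [dotProduct_smul, hce0 _ _ _ _ (by simp [Ne.symm hl]), smul_zero]
    · simp
    · intro j _ hj
      rw [dotProduct_sum]
      refine Finset.sum_eq_zero fun l _ => ?_
      rw [dotProduct_smul, hce0 _ _ _ _ (by simp [Ne.symm hj]), smul_zero]
    · simp
  have hinv : ∀ σ, Z σ.symm * Z σ = 1 := fun σ => by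
    refine Matrix.ext_of_mulVec_single fun p => ?_
    rw [← mulVec_mulVec, one_mulVec, hZ σ.symm]
    conv_rhs => rw [hsum (Pi.single p 1)]
    rw [← Equiv.sum_comp σ]
    refine Finset.sum_congr rfl fun i _ => Finset.sum_congr rfl fun k _ => ?_
    rw [hcZ, Equiv.symm_apply_apply]
  let g : GL ι F := ⟨Z σ, Z σ.symm, by simpa using hinv σ.symm, hinv σ⟩
  have hg : ∀ i, ∀ x ∈ D i, (g : Matrix ι ι F) *ᵥ x ∈ D (σ i) := by
    intro i x hx
    show Z σ *ᵥ x ∈ _
    rw [hZ, Finset.sum_eq_single i]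
    · exact Submodule.sum_mem _ fun k _ => Submodule.smul_mem _ _ (he _ k)
    · intro j _ hj
      refine Finset.sum_eq_zero fun k _ => ?_
      have h0 : c j k ⬝ᵥ x = 0 := by
        rw [hsum x, dotProduct_sum, Finset.sum_eq_single j]
        · have : comp hD j x = 0 := comp_of_mem_ne hD (Ne.symm hj) hx
          rw [← hcomp, this, dotProduct_zero]
        · intro l _ hl
          rw [dotProduct_sum]
          exact Finset.sum_eq_zero fun r _ => by
            rw [dotProduct_smul, hce0 _ _ _ _ (by simp [Ne.symm hl]), smul_zero]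
        · simp
      rw [h0, zero_smul]
    · simp
  obtain ⟨j, v, hv, hv0⟩ : ∃ j : Fin t, ∃ v ∈ D j, v ≠ 0 :=
    ⟨_, exists_ne_zero hD ⟨0, by have := hD.two_le; omega⟩⟩
  obtain ⟨φ, hφ, hφv⟩ := exists_dual_one hD hv hv0
  set d : Fˣ := (Matrix.GeneralLinearGroup.det g)⁻¹ with hd
  refine ⟨g * pr v φ hφv d, ⟨Subgroup.mul_mem _ (mem_stabilizer_of_image hD fun i => ⟨σ i, hg i⟩)
    (pr_mem_stabilizer hD hv hφ hφv d), ?_⟩, fun i x hx => ?_⟩
  · refine mem_specialLinear.2 ?_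
    rw [Units.val_mul, det_mul, pr_det, hd]
    show ((Matrix.GeneralLinearGroup.det g : Fˣ) : F) * _ = 1
    rw [Units.mul_inv]
  · rw [gl_mul_mulVec]
    refine hg i _ ?_
    rw [pr_mulVec]
    rcases eq_or_ne i j with rfl | hij
    · exact (D i).add_mem hx ((D i).smul_mem _ hv)
    · rw [hφ.eq_zero_of_mem hij hx, mul_zero, zero_smul, add_zero]
      exact hx

end CfsgLib.GeomClasses.DecompMax
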