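import Cfsg.Agent.Lib.GeomClasses.DecompMax.Roots

/-! A subgroup properly containing all monomial matrices contains the special linear group. -/

set_option autoImplicit false
set_option linter.unusedSimpArgs false
set_option linter.unusedSectionVars false

namespace CfsgLib.GeomClasses.DecompMax

open Matrix
open scoped MatrixGroups

variable {J : Type} [Fintype J] [DecidableEq J] {F : Type*} [Field F] [Fintype F]

/-- `K` contains the pseudo-reflections with centre `w` and axis `ψ`. -/
def Ps (K : Subgroup (GL J F)) (w ψ : J → F) : Prop :=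
  ψ ⬝ᵥ w = 1 ∧ ∀ a : F, a ≠ 0 → ∃ x ∈ K, ∀ v, (x : Matrix J J F) *ᵥ v = v + ((a - 1) * (ψ ⬝ᵥ v)) • w

theorem Ps.conj {K : Subgroup (GL J F)} {w ψ : J → F} (h : Ps K w ψ) {g : GL J F} (hg : g ∈ K) :
    Ps K ((g : Matrix J J F) *ᵥ w) (ψ ᵥ* ((g⁻¹ : GL J F) : Matrix J J F)) := by
  refine ⟨by rw [← dotProduct_mulVec, gl_inv_mulVec_mulVec, h.1], fun a ha => ?_⟩
  obtain ⟨x, hx, hxv⟩ := h.2 a ha
  refine ⟨g * x * g⁻¹, K.mul_mem (K.mul_mem hg hx) (K.inv_mem hg), fun v => ?_⟩
  rw [gl_mul_mulVec, gl_mul_mulVec, hxv, mulVec_add, mulVec_smul, gl_mulVec_inv_mulVec,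
    ← dotProduct_mulVec]

theorem Ps.of_mem {K : Subgroup (GL J F)} (hK : MonoAll K) {g : GL J F} (hg : g ∈ K) (j : J) :
    Ps K ((g : Matrix J J F) *ᵥ Pi.single j 1)
      ((Pi.single j 1 : J → F) ᵥ* ((g⁻¹ : GL J F) : Matrix J J F)) := by
  refine Ps.conj ⟨by simp, fun a ha => ⟨monoGL 1 (Function.update (fun _ => (1 : Fˣ)) j (Units.mk0 a ha)),
    hK _ _, fun v => ?_⟩⟩ hg
  funext i
  rw [monoGL_mulVec]
  rcases eq_or_ne i j with rfl | hi
  · simp; ring
  · simp [Function.update_of_ne hi, hi]

/-- Two pseudo-reflections with the same centre give a line of transvections. -/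
theorem Ps.tv_diff (hq : 4 ≤ Fintype.card F) {K : Subgroup (GL J F)} {w ψ ψ' : J → F} (h : Ps K w ψ)
    (h' : Ps K w ψ') : (ψ' - ψ) ⬝ᵥ w = 0 ∧ ∀ A : F, tv w (A • (ψ' - ψ)) ∈ K := by
  classical
  have h0 : (ψ' - ψ) ⬝ᵥ w = 0 := by rw [sub_dotProduct, h'.1, h.1, sub_self]
  refine ⟨h0, ?_⟩
  have main : ∀ a : F, a ≠ 0 → tv w ((a - 1) • (ψ' - ψ)) ∈ K := by
    intro a ha
    obtain ⟨x, hx, hxv⟩ := h.2 a ha
    obtain ⟨y, hy, hyv⟩ := h'.2 a ha
    have e : tv w ((a - 1) • (ψ' - ψ)) * x = y := by
      apply gl_ext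
      intro v
      rw [gl_mul_mulVec, tv_mulVec (by simp [h0]), hxv, hyv, smul_dotProduct, sub_dotProduct,
        dotProduct_add, dotProduct_add, dotProduct_smul, dotProduct_smul, h.1, h'.1]
      simp only [smul_eq_mul, add_assoc, ← add_smul]
      congr 2
      ring
    have := K.mul_mem hy (K.inv_mem hx)
    rwa [← e, mul_inv_cancel_right] at this
  intro A
  by_cases hA : A = -1
  · obtain ⟨y, hy⟩ := exists_avoid (s := ({0, -1} : Finset F)) (Finset.card_le_two.trans_lt (by omega))
    simp only [Finset.mem_insert, Finset.mem_singleton, not_or] at hy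
    have h1 := main (y + 1) fun e => hy.2 (eq_neg_of_add_eq_zero_left e)
    have h2 := main (-y) (neg_ne_zero.2 hy.1)
    have h3 := K.mul_mem h1 h2
    rw [tv_mul_tv_right (by simp [h0]) (by simp [h0]), ← add_smul] at h3
    rw [hA]
    convert h3 using 3
    ring
  · have := main (A + 1) fun e => hA (eq_neg_of_add_eq_zero_left e)
    rwa [add_sub_cancel_right] at this

/-- A line of transvections whose axis has at most two non-zero coordinates. -/
theorem root_of_tv_pair (hJ : 4 ≤ Fintype.card J) (hq : 5 ≤ Fintype.card F) {K : Subgroup (GL J F)}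
    (hK : MonoAll K) {w φ : J → F} {i k : J} (hik : i ≠ k) (hφ : φ ≠ 0)
    (hsupp : ∀ j, j ≠ i → j ≠ k → φ j = 0) (hw : w ≠ 0) (h0 : φ ⬝ᵥ w = 0)
    (hline : ∀ A : F, tv w (A • φ) ∈ K) : Cfsg.Geo.specialLinear J F ≤ K := by
  classical
  have ht : tv w φ ∈ K := by simpa using hline 1
  have hq3 : 3 ≤ Fintype.card F := by omega
  by_cases hex : ∃ l, w l ≠ 0 ∧ φ l = 0
  · obtain ⟨l, hwl, hφl⟩ := hex
    exact root_of_split_left hJ hq3 hK h0 ht hφ hwl hφl
  push Not at hex
  by_cases hex2 : ∃ l, w l = 0 ∧ φ l ≠ 0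
  · obtain ⟨l, hwl, hφl⟩ := hex2
    exact root_of_split_right hJ hq3 hK h0 ht hw hwl hφl
  push Not at hex2
  have hwout : ∀ j, j ≠ i → j ≠ k → w j = 0 := fun j h1 h2 => by
    by_contra h
    exact hex j h (hsupp j h1 h2)
  have hsum : φ i * w i + φ k * w k = 0 := by
    rw [← h0, dotProduct]
    rw [← Finset.add_sum_erase Finset.univ _ (Finset.mem_univ i),
      ← Finset.add_sum_erase (Finset.univ.erase i) _ (Finset.mem_erase.2 ⟨hik.symm, Finset.mem_univ k⟩),
      Finset.sum_eq_zero fun j hj => by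
        simp only [Finset.mem_erase] at hj
        rw [hsupp j hj.2.1 hj.1, zero_mul]]
    ring
  have hP0 : φ i * w i ≠ 0 := by
    intro h
    have hk : φ k * w k = 0 := by rwa [h, zero_add] at hsum
    obtain ⟨l, hl⟩ := Function.ne_iff.1 hw
    have hl' : w l ≠ 0 := hl
    have hφl := hex l hl'
    rcases eq_or_ne l i with rfl | hli
    · exact mul_ne_zero hφl hl' h
    rcases eq_or_ne l k with rfl | hlk
    · exact mul_ne_zero hφl hl' hk
    exact hφl (hsupp l hli hlk)
  -- choose the scalar
  obtain ⟨P, hP0', hP1, hPsq⟩ : ∃ P : F, P ≠ 0 ∧ P ≠ -1 ∧ P * P ≠ -1 := by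
    by_cases hr : ∃ r : F, r * r = -1
    · obtain ⟨r, hr⟩ := hr
      obtain ⟨P, hP⟩ := exists_avoid (s := ({0, -1, r, -r} : Finset F)) (Finset.card_le_four.trans_lt (by omega))
      simp only [Finset.mem_insert, Finset.mem_singleton, not_or] at hP
      refine ⟨P, hP.1, hP.2.1, fun e => ?_⟩
      rcases mul_self_eq_mul_self_iff.1 (e.trans hr.symm) with h | h
      · exact hP.2.2.1 h
      · exact hP.2.2.2 h
    · push Not at hr
      obtain ⟨P, hP⟩ := exists_avoid (s := ({0, -1} : Finset F)) (Finset.card_le_two.trans_lt (by omega))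
      simp only [Finset.mem_insert, Finset.mem_singleton, not_or] at hP
      exact ⟨P, hP.1, hP.2, hr P⟩
  set ξ : J → F := (P / (φ i * w i)) • φ with hξ
  have hξT : tv w ξ ∈ K := hline _
  have hξ0 : ξ ⬝ᵥ w = 0 := by simp [hξ, h0]
  have hξi : ξ i * w i = P := by simp [hξ]; field_simp; exact div_self hP0
  have hξk : ξ k * w k = -P := by
    have : ξ i * w i + ξ k * w k = 0 := by
      simp only [hξ, Pi.smul_apply, smul_eq_mul]
      rw [mul_assoc, mul_assoc, ← mul_add, hsum, mul_zero]
    rw [hξi] at this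
    exact eq_neg_of_add_eq_zero_right this
  have hwi : w i ≠ 0 := fun h => hP0 (by rw [h, mul_zero])
  have hwk : w k ≠ 0 := fun h => hP0' (by rw [h, mul_zero] at hξk; exact neg_eq_zero.1 hξk.symm)
  have hξout : ∀ j, j ≠ i → j ≠ k → ξ j = 0 := fun j h1 h2 => by simp [hξ, hsupp j h1 h2]
  obtain ⟨o, hoi, hok⟩ := exists_third (show 3 ≤ Fintype.card J by omega) i k
  -- a copy on `{k, o}`
  set π := Equiv.swap i k * Equiv.swap k o with hπ
  have hπi : π i = k := by simp [π, Equiv.swap_apply_of_ne_of_ne hik (Ne.symm hoi)]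
  have hπk : π k = o := by simp [π, Equiv.swap_apply_of_ne_of_ne hoi hok]
  set d : J → Fˣ := Function.update (Function.update (fun _ => (1 : Fˣ)) i (Units.mk0 (w i) hwi)⁻¹)
    k (Units.mk0 (w k) hwk)⁻¹ with hd
  have hdi : (d i : F) = (w i)⁻¹ := by simp [hd, Function.update_of_ne hik]
  have hdk : (d k : F) = (w k)⁻¹ := by simp [hd]
  obtain ⟨hT2, hT20⟩ := mono_conj_tv (hK π d) hξ0 hξT
  set u : J → F := fun j => (d (π.symm j) : F) * w (π.symm j) with hu
  set χ : J → F := fun j => ξ (π.symm j) * ((d (π.symm j) : F))⁻¹ with hχ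
  have hsk : π.symm k = i := by rw [← hπi, Equiv.symm_apply_apply]
  have hso : π.symm o = k := by rw [← hπk, Equiv.symm_apply_apply]
  have huk : u k = 1 := by simp [hu, hsk, hdi, hwi]
  have huo : u o = 1 := by simp [hu, hso, hdk, hwk]
  have hχk : χ k = P := by simp [hχ, hsk, hdi, hξi]
  have hχo : χ o = -P := by simp [hχ, hso, hdk, hξk]
  have hui : u i = 0 := by
    simp only [hu]
    rw [hwout _ (fun e => hik (by have := congrArg π e; rwa [Equiv.apply_symm_apply, hπi] at this))
      (fun e => hoi (by have := congrArg π e; rw [Equiv.apply_symm_apply, hπk] at this; exact this.symm)), mul_zero]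
  have hχi : χ i = 0 := by
    simp only [hχ]
    rw [hξout _ (fun e => hik (by have := congrArg π e; rwa [Equiv.apply_symm_apply, hπi] at this))
      (fun e => hoi (by have := congrArg π e; rw [Equiv.apply_symm_apply, hπk] at this; exact this.symm)), zero_mul]
  have hχw : χ ⬝ᵥ w = P * w k := by
    rw [dotProduct, Finset.sum_eq_single k _ (by simp), hχk]
    intro j _ hjk
    rcases eq_or_ne j i with rfl | hji
    · rw [hχi, zero_mul]
    · rw [hwout j hji hjk, mul_zero]
  have hξu : ξ ⬝ᵥ u = ξ k := by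
    rw [dotProduct, Finset.sum_eq_single k _ (by simp), huk, mul_one]
    intro j _ hjk
    rcases eq_or_ne j i with rfl | hji
    · rw [hui, mul_zero]
    · rw [hξout j hji hjk, zero_mul]
  have hT3 := K.mul_mem (K.mul_mem hT2 hξT) (K.inv_mem hT2)
  rw [tv_conj_tv hT20 hξ0, hχw, hξu] at hT3
  set w' := w + (P * w k) • u with hw'
  set φ' := ξ - ξ k • χ with hφ'
  have h0' : φ' ⬝ᵥ w' = 0 := by
    rw [hφ', hw', sub_dotProduct, dotProduct_add, dotProduct_add, dotProduct_smul, dotProduct_smul,
      smul_dotProduct (ξ k) χ w, smul_dotProduct (ξ k) χ u, hξ0, hT20, hξu, hχw]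
    simp only [smul_eq_mul]; ring
  have hw'i : w' i = w i := by simp [hw', hui]
  have hw'o : w' o = P * w k := by simp [hw', huo, hwout o hoi hok]
  have hw'k : w' k = w k * (1 + P) := by simp [hw', huk]; ring
  have hP'i : φ' i * w' i = P := by simp [hφ', hw'i, hχi, hξi]
  have hP'o : φ' o * w' o = -(P * P * P) := by
    simp [hφ', hw'o, hχo, hξout o hoi hok]
    linear_combination (P * P) * hξk
  -- swap `i` and `o`
  have hw'i0 : w' i ≠ 0 := hw'i ▸ hwi
  have hw'o0 : w' o ≠ 0 := by rw [hw'o]; exact mul_ne_zero hP0' hwk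
  set e : J → Fˣ := Function.update (Function.update (fun _ => (1 : Fˣ)) i
    (Units.mk0 (w' o / w' i) (div_ne_zero hw'o0 (hw'i ▸ hwi)))) o
    (Units.mk0 (w' i / w' o) (div_ne_zero (hw'i ▸ hwi) hw'o0)) with he
  obtain ⟨h4, h40⟩ := mono_conj_tv (hK (Equiv.swap i o) e) h0' hT3
  have hfix : (fun j => (e ((Equiv.swap i o).symm j) : F) * w' ((Equiv.swap i o).symm j)) = w' := by
    funext j
    rcases eq_or_ne j i with rfl | hji
    · simp [he, Equiv.swap_apply_left]; field_simp
    rcases eq_or_ne j o with rfl | hjo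
    · simp [he, Equiv.swap_apply_right, Function.update_of_ne (Ne.symm hoi)]; field_simp
    · simp [he, Equiv.swap_apply_of_ne_of_ne hji hjo, Function.update_of_ne hjo, Function.update_of_ne hji]
  rw [hfix] at h4 h40
  have h5 := tv_sub_right h40 h0' h4 hT3
  refine root_of_split_left hJ hq3 hK (w := w') (k := k) ?_ h5 ?_ ?_ ?_
  · rw [sub_dotProduct, h40, h0', sub_zero]
  · intro hz
    have h6 := congrFun hz i
    simp only [Pi.sub_apply, Pi.zero_apply, Equiv.symm_swap, Equiv.swap_apply_left, he,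
      Function.update_self, Units.val_mk0, sub_eq_zero] at h6
    apply hPsq
    have h7 : φ' o * w' o = φ' i * w' i := by
      rw [← h6]
      field_simp
    rw [hP'i, hP'o] at h7
    apply mul_left_cancel₀ hP0'
    linear_combination -h7
  · rw [hw'k]; exact mul_ne_zero hwk fun e => hP1 (eq_neg_of_add_eq_zero_right e)
  · simp only [Pi.sub_apply, Equiv.symm_swap, Equiv.swap_apply_of_ne_of_ne hik.symm (Ne.symm hok), he,
      Function.update_of_ne (Ne.symm hok), Function.update_of_ne hik.symm]
    simp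

/-- Two coordinates with different products. -/
theorem root_of_products (hJ : 4 ≤ Fintype.card J) (hq : 5 ≤ Fintype.card F) {K : Subgroup (GL J F)}
    (hK : MonoAll K) {w ψ : J → F} (h : Ps K w ψ) {i k : J} (hwi : w i ≠ 0) (hwk : w k ≠ 0)
    (hne : ψ i * w i ≠ ψ k * w k) : Cfsg.Geo.specialLinear J F ≤ K := by
  classical
  have hik : i ≠ k := fun e => hne (e ▸ rfl)
  set e : J → Fˣ := Function.update (Function.update (fun _ => (1 : Fˣ)) i
    (Units.mk0 (w k / w i) (div_ne_zero hwk hwi))) k (Units.mk0 (w i / w k) (div_ne_zero hwi hwk)) with he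
  set ψ' : J → F := fun j => ψ (Equiv.swap i k j) * ((e (Equiv.swap i k j) : F))⁻¹ with hψ'
  have hh := h.conj (hK (Equiv.swap i k) e)
  have e1 : ((monoGL (Equiv.swap i k) e : GL J F) : Matrix J J F) *ᵥ w = w := by
    funext j
    rw [monoGL_mulVec]
    rcases eq_or_ne j i with rfl | hji
    · simp [he, Equiv.swap_apply_left]; field_simp
    rcases eq_or_ne j k with rfl | hjk
    · simp [he, Equiv.swap_apply_right, Function.update_of_ne hik]; field_simp
    · simp [he, Equiv.swap_apply_of_ne_of_ne hji hjk, Function.update_of_ne hjk, Function.update_of_ne hji]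
  have e2 : ψ ᵥ* (((monoGL (Equiv.swap i k) e)⁻¹ : GL J F) : Matrix J J F) = ψ' := by
    funext j
    rw [monoGL_inv, monoGL_vecMul]
    simp [hψ', Equiv.Perm.inv_def]
  rw [e1, e2] at hh
  obtain ⟨h0, hl⟩ := Ps.tv_diff (by omega) h hh
  refine root_of_tv_pair hJ hq hK hik ?_ ?_ (fun hz => hwi (by simp [hz])) h0 hl
  · intro hz
    apply hne
    have h6 := congrFun hz i
    simp only [Pi.sub_apply, Pi.zero_apply, hψ', Equiv.swap_apply_left, he, Function.update_self,
      Units.val_mk0, sub_eq_zero] at h6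
    rw [← h6]
    field_simp
  · intro j hji hjk
    simp [hψ', he, Equiv.swap_apply_of_ne_of_ne hji hjk, Function.update_of_ne hjk, Function.update_of_ne hji]

/-- A pseudo-reflection whose centre is not a coordinate line. -/
theorem root_of_ps (hJ : 4 ≤ Fintype.card J) (hq : 5 ≤ Fintype.card F) {K : Subgroup (GL J F)}
    (hK : MonoAll K) {w ψ : J → F} (h : Ps K w ψ) {i k : J} (hik : i ≠ k) (hwi : w i ≠ 0)
    (hwk : w k ≠ 0) : Cfsg.Geo.specialLinear J F ≤ K := by
  classical
  have hw : w ≠ 0 := fun hz => hwi (by simp [hz])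
  -- the axis vanishes where the centre does
  by_cases hout : ∃ o, w o = 0 ∧ ψ o ≠ 0
  · obtain ⟨o, hwo, hψo⟩ := hout
    obtain ⟨x, hx⟩ := exists_unit_ne_one (F := F) (by omega)
    set e : J → Fˣ := Function.update (fun _ => (1 : Fˣ)) o x with he
    have hh := h.conj (hK 1 e)
    have e1 : ((monoGL (1 : Equiv.Perm J) e : GL J F) : Matrix J J F) *ᵥ w = w := by
      funext j
      rw [monoGL_mulVec]
      rcases eq_or_ne j o with rfl | hjo
      · simp [hwo]
      · simp [he, Function.update_of_ne hjo]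
    rw [e1] at hh
    obtain ⟨h0, hl⟩ := Ps.tv_diff (by omega) h hh
    have hd : ψ ᵥ* (((monoGL (1 : Equiv.Perm J) e)⁻¹ : GL J F) : Matrix J J F) - ψ =
        Pi.single o (((x : F)⁻¹ - 1) * ψ o) := by
      funext j
      rw [Pi.sub_apply, monoGL_inv, monoGL_vecMul]
      rcases eq_or_ne j o with rfl | hjo
      · simp [he]; ring
      · simp [he, Function.update_of_ne hjo, hjo]
    have ht := hl 1
    rw [one_smul, hd] at ht
    exact root_of_right hJ (by omega) hK.monoSL
      (mul_ne_zero (sub_ne_zero.2 fun e => hx (inv_eq_one.1 e)) hψo) hw hwo ht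
  push Not at hout
  by_cases hprod : ∃ a b, w a ≠ 0 ∧ w b ≠ 0 ∧ ψ a * w a ≠ ψ b * w b
  · obtain ⟨a, b, ha, hb, hab⟩ := hprod
    exact root_of_products hJ hq hK h ha hb hab
  push Not at hprod
  set S := Finset.univ.filter (fun j => w j ≠ 0) with hS
  set κ := ψ i * w i with hκ
  have hconst : ∀ j ∈ S, ψ j * w j = κ := fun j hj => hprod j i (Finset.mem_filter.1 hj).2 hwi
  have hone : (S.card : F) * κ = 1 := by
    rw [← h.1, dotProduct, ← Finset.sum_filter_add_sum_filter_not Finset.univ (fun j => w j ≠ 0),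
      Finset.sum_eq_zero (s := Finset.univ.filter fun j => ¬ w j ≠ 0) (fun j hj => by
        simp only [Finset.mem_filter, not_not] at hj; rw [hj.2, mul_zero]), add_zero,
      ← hS, Finset.sum_congr rfl hconst, Finset.sum_const, nsmul_eq_mul]
  have hκ0 : κ ≠ 0 := fun e => by rw [e, mul_zero] at hone; exact zero_ne_one hone
  have hiS : i ∈ S := by simp [hS, hwi]
  have hkS : k ∈ S := by simp [hS, hwk]
  -- conjugating by a monomial copy
  have build : ∀ (π : Equiv.Perm J) (d : J → Fˣ) (a b : J) (B : F), B ≠ -1 →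
      let u : J → F := fun j => (d (π.symm j) : F) * w (π.symm j)
      let φ : J → F := fun j => ψ (π.symm j) * ((d (π.symm j) : F))⁻¹
      let X := φ ⬝ᵥ w
      let Y := ψ ⬝ᵥ u
      let B' := (B + 1)⁻¹ - 1
      w a + B * X * u a ≠ 0 → w b + B * X * u b ≠ 0 →
      (ψ a + B' * Y * φ a) * (w a + B * X * u a) ≠ (ψ b + B' * Y * φ b) * (w b + B * X * u b) →
      Cfsg.Geo.specialLinear J F ≤ K := by
    intro π d a b B hB u φ X Y B' ha hb hne
    have hu : Ps K u φ := by
      convert h.conj (hK π d) using 1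
      · funext j; rw [monoGL_mulVec]
      · funext j; rw [monoGL_inv, monoGL_vecMul]; simp [φ, Equiv.Perm.inv_def]
    have hB1 : B + 1 ≠ 0 := fun e => hB (eq_neg_of_add_eq_zero_left e)
    obtain ⟨y, hy, hyv⟩ := hu.2 (B + 1) hB1
    obtain ⟨y', hy', hyv'⟩ := hu.2 (B + 1)⁻¹ (inv_ne_zero hB1)
    have hinv : y⁻¹ = y' := by
      apply inv_eq_of_mul_eq_one_right
      apply gl_ext
      intro v
      rw [gl_mul_mulVec, hyv', hyv, dotProduct_add, dotProduct_smul, hu.1, Units.val_one, one_mulVec,
        add_assoc, ← add_smul]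
      have : ((B + 1)⁻¹ - 1) * (φ ⬝ᵥ v) +
          (B + 1 - 1) * (φ ⬝ᵥ v + ((B + 1)⁻¹ - 1) * (φ ⬝ᵥ v) • (1 : F)) = 0 := by
        simp only [smul_eq_mul, mul_one]
        field_simp
        ring
      simp only [smul_eq_mul, mul_one] at this ⊢
      rw [this, zero_smul, add_zero]
    have hh := h.conj hy
    have e1 : (y : Matrix J J F) *ᵥ w = fun j => w j + B * X * u j := by
      funext j
      simp [hyv, X]
    have e2 : ψ ᵥ* ((y⁻¹ : GL J F) : Matrix J J F) = fun j => ψ j + B' * Y * φ j := by
      funext j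
      have h1 := congrArg (fun x => ψ ⬝ᵥ x) (hyv' (Pi.single j 1))
      simp only [dotProduct_mulVec, dotProduct_add, dotProduct_smul, dotProduct_single, mul_one,
        smul_eq_mul] at h1
      rw [hinv, h1]
      simp [B', Y]; ring
    rw [e1, e2] at hh
    exact root_of_products hJ hq hK hh ha hb hne
  by_cases h2 : S.card = 2
  · -- two coordinates
    have hSeq : S = {i, k} := (Finset.eq_of_subset_of_card_le (by
      intro j hj; rcases Finset.mem_insert.1 hj with rfl | hj
      · exact hiS
      · rw [Finset.mem_singleton] at hj; exact hj ▸ hkS) (by rw [h2, Finset.card_pair hik])).symm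
    obtain ⟨o, hoi, hok⟩ := exists_third (show 3 ≤ Fintype.card J by omega) i k
    have hwo : w o = 0 := by
      by_contra hz
      have : o ∈ S := by simp [hS, hz]
      rw [hSeq] at this
      simp [hoi, hok] at this
    have hψo := hout o hwo
    rw [h2] at hone
    push_cast at hone
    obtain ⟨b, hb⟩ := exists_avoid (s := ({0, 1, -1} : Finset F)) (Finset.card_le_three.trans_lt (by omega))
    simp only [Finset.mem_insert, Finset.mem_singleton, not_or] at hb
    set π := Equiv.swap i o with hπ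
    have hX : (fun j => ψ (π.symm j) * (((fun _ => (1 : Fˣ)) (π.symm j) : Fˣ) : F)⁻¹) ⬝ᵥ w = κ := by
      rw [dotProduct, Finset.sum_eq_single k _ (by simp)]
      · simp [hπ, Equiv.swap_apply_of_ne_of_ne hik.symm hok.symm]; exact hconst k hkS
      · intro j _ hjk
        rcases eq_or_ne j i with rfl | hji
        · simp [hπ, hψo]
        · have : w j = 0 := by
            by_contra hz
            have : j ∈ S := by simp [hS, hz]
            rw [hSeq] at this
            simp [hji, hjk] at this
          simp [this]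
    have hY : ψ ⬝ᵥ (fun j => (((fun _ => (1 : Fˣ)) (π.symm j) : Fˣ) : F) * w (π.symm j)) = κ := by
      rw [dotProduct, Finset.sum_eq_single k _ (by simp)]
      · simp [hπ, Equiv.swap_apply_of_ne_of_ne hik.symm hok.symm]; exact hconst k hkS
      · intro j _ hjk
        rcases eq_or_ne j i with rfl | hji
        · simp [hπ, hwo]
        rcases eq_or_ne j o with rfl | hjo
        · simp [hψo]
        · have : w j = 0 := by
            by_contra hz
            have : j ∈ S := by simp [hS, hz]
            rw [hSeq] at this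
            simp [hji, hjk] at this
          simp [hπ, Equiv.swap_apply_of_ne_of_ne hji hjo, this]
    refine build π (fun _ => 1) i o (b - 1) (fun e => hb.1 (by linear_combination e)) ?_ ?_ ?_ <;>
      simp only [hX, hY]
    · simpa [hπ, hwo] using hwi
    · simp [hπ, hwo, hwi, hκ0, sub_eq_zero, hb.2.1]
    · simp [hπ, hwo, hψo]
      intro e
      apply hb.2.2
      have hb0 := hb.1
      field_simp at e
      have h4 : (2 : F) ≠ 0 := fun z => by rw [z, zero_mul] at hone; exact zero_ne_one hone
      have e' : b = (1 - b) * κ ^ 2 * (b - 1) :=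
        mul_left_cancel₀ (left_ne_zero_of_mul hκ0) (by linear_combination e)
      have hsq : (b + 1) * (b + 1) = 0 := by
        linear_combination (4 : F) * e' + (-(b - 1) * (b - 1) * (2 * κ + 1)) * hone
      exact eq_neg_of_add_eq_zero_left (mul_self_eq_zero.1 hsq)
  -- at least three coordinates
  have hS3 : 3 ≤ S.card := by
    have h1 := Finset.card_le_card (show ({i, k} : Finset J) ⊆ S from fun j hj => by
      rcases Finset.mem_insert.1 hj with rfl | hj
      · exact hiS
      · rw [Finset.mem_singleton] at hj; exact hj ▸ hkS)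
    rw [Finset.card_pair hik] at h1
    omega
  set s := (S.card : F) with hs
  have route : ∀ (Z : Finset J) (a b : J), Z ⊆ S → a ∈ Z → b ∈ S → b ∉ Z → ∀ c : Fˣ,
      let z := (Z.card : F)
      let X := κ * (s - z + z * (c : F)⁻¹)
      let Y := κ * (s - z + z * (c : F))
      (c : F) ≠ 1 → ∀ b' : F, b' ≠ 0 → b' ≠ 1 → 1 + (b' - 1) * X ≠ 0 → 1 + (b' - 1) * X * c ≠ 0 →
      X * (b' * (c : F)) + Y ≠ 0 → Cfsg.Geo.specialLinear J F ≤ K := by
    intro Z a b hZS haZ hbS hbZ c z X Y hc b' hb0 hb1 h1 h2 h3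
    have hsum : ∀ x : F, ∑ j ∈ S, (if j ∈ Z then x else 1) = s - z + z * x := by
      intro x
      rw [← Finset.sum_sdiff hZS, Finset.sum_congr rfl (fun j hj => if_neg (Finset.mem_sdiff.1 hj).2),
        Finset.sum_congr rfl (fun j (hj : j ∈ Z) => if_pos hj), Finset.sum_const, Finset.sum_const,
        nsmul_eq_mul, nsmul_eq_mul, mul_one, Finset.card_sdiff_of_subset hZS,
        Nat.cast_sub (Finset.card_le_card hZS)]
    have hfull : ∀ f : J → F, (∀ j, w j = 0 → f j = 0) → ∑ j, f j = ∑ j ∈ S, f j := fun f hf =>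
      (Finset.sum_subset (Finset.subset_univ S) fun j _ hj => hf j (by simpa [hS] using hj)).symm
    have hX : (fun j => ψ ((1 : Equiv.Perm J).symm j) *
        (((fun j => if j ∈ Z then c else 1) ((1 : Equiv.Perm J).symm j) : Fˣ) : F)⁻¹) ⬝ᵥ w = X := by
      rw [dotProduct, hfull _ (fun j hj => by simp [hj]),
        Finset.sum_congr rfl (g := fun j => κ * (if j ∈ Z then (c : F)⁻¹ else 1)) (fun j hj => by
          rw [← hconst j hj, one_perm_symm_apply]
          by_cases hjZ : j ∈ Z <;> simp [hjZ] <;> ring), ← Finset.mul_sum, hsum]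
    have hY : ψ ⬝ᵥ (fun j => (((fun j => if j ∈ Z then c else 1) ((1 : Equiv.Perm J).symm j) : Fˣ) : F) *
        w ((1 : Equiv.Perm J).symm j)) = Y := by
      rw [dotProduct, hfull _ (fun j hj => by simp [hj]),
        Finset.sum_congr rfl (g := fun j => κ * (if j ∈ Z then (c : F) else 1)) (fun j hj => by
          rw [← hconst j hj, one_perm_symm_apply]
          by_cases hjZ : j ∈ Z <;> simp [hjZ] <;> ring), ← Finset.mul_sum, hsum]
    have ha := (Finset.mem_filter.1 (hZS haZ)).2
    have hb := (Finset.mem_filter.1 hbS).2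
    refine build 1 (fun j => if j ∈ Z then c else 1) a b (b' - 1)
      (fun e => hb0 (by linear_combination e)) ?_ ?_ ?_ <;> simp only [hX, hY]
    · intro e
      simp [haZ] at e
      exact h2 (mul_left_cancel₀ ha (by rw [mul_zero]; linear_combination e))
    · intro e
      simp [hbZ] at e
      exact h1 (mul_left_cancel₀ hb (by rw [mul_zero]; linear_combination e))
    · intro e
      simp [haZ, hbZ] at e
      have hpa := hconst a (hZS haZ)
      have hpb := hconst b hbS
      have hc0 := c.ne_zero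
      apply h3
      apply mul_left_cancel₀ (mul_ne_zero (mul_ne_zero hκ0 (sub_ne_zero.2 hc)) (sub_ne_zero.2 hb1))
      rw [mul_zero]
      have hl : (ψ a + (b'⁻¹ - 1) * Y * (ψ a * (c : F)⁻¹)) * (w a + (b' - 1) * X * ((c : F) * w a)) =
          ψ a * w a * ((1 + (b'⁻¹ - 1) * Y * (c : F)⁻¹) * (1 + (b' - 1) * X * c)) := by ring
      have hr : (ψ b + (b'⁻¹ - 1) * Y * ψ b) * (w b + (b' - 1) * X * w b) =
          ψ b * w b * ((1 + (b'⁻¹ - 1) * Y) * (1 + (b' - 1) * X)) := by ring
      rw [hl, hr, hpa, hpb] at e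
      field_simp at e
      linear_combination κ * e
  have hex : ∀ a : J, ∃ b ∈ S, b ≠ a := fun a => by
    rcases eq_or_ne a i with rfl | ha
    · exact ⟨k, hkS, hik.symm⟩
    · exact ⟨i, hiS, Ne.symm ha⟩
  by_cases hchar : (2 : F) = 0
  · -- characteristic two
    have hq8 : 6 ≤ Fintype.card F := by
      by_contra hcon
      have h5 : Fintype.card F = 5 := by omega
      have h50 : ((5 : ℕ) : F) = 0 := by rw [← h5]; exact FiniteField.cast_card_eq_zero F
      push_cast at h50
      exact one_ne_zero (show (1 : F) = 0 by linear_combination h50 - 2 * hchar)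
    obtain ⟨c, hc⟩ := exists_avoid (s := ({0, 1, 1 - s, (1 - s)⁻¹} : Finset F))
      (Finset.card_le_four.trans_lt (by omega))
    simp only [Finset.mem_insert, Finset.mem_singleton, not_or] at hc
    have hc1 : s - 1 + 1 * c⁻¹ ≠ 0 := fun e => hc.2.2.2 (by
      have : c⁻¹ = 1 - s := by linear_combination e
      rw [← this, inv_inv])
    have hc2 : s - 1 + 1 * c ≠ 0 := fun e => hc.2.2.1 (by linear_combination e)
    obtain ⟨b, hb, hbi⟩ := hex i
    set X := κ * (s - 1 + 1 * c⁻¹) with hX
    set Y := κ * (s - 1 + 1 * c) with hY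
    have hX0 : X ≠ 0 := mul_ne_zero hκ0 hc1
    obtain ⟨b', hb'⟩ := exists_avoid (s := ({0, 1, 1 - X⁻¹, 1 - (X * c)⁻¹, -Y / (X * c)} : Finset F))
      (Finset.card_le_five.trans_lt (by omega))
    simp only [Finset.mem_insert, Finset.mem_singleton, not_or] at hb'
    refine route {i} i b (by simp [hiS]) (Finset.mem_singleton_self i) hb (by simp [hbi])
      (Units.mk0 c hc.1) hc.2.1 b' hb'.1 hb'.2.1 ?_ ?_ ?_ <;>
      simp only [Finset.card_singleton, Nat.cast_one, Units.val_mk0, ← hX, ← hY]
    · intro e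
      apply hb'.2.2.1
      field_simp
      linear_combination e
    · intro e
      apply hb'.2.2.2.1
      have := hc.1
      field_simp
      linear_combination e
    · intro e
      apply hb'.2.2.2.2
      have := hc.1
      field_simp
      linear_combination e
  · -- odd characteristic
    have main : ∀ (Z : Finset J) (a b : J), Z ⊆ S → a ∈ Z → b ∈ S → b ∉ Z →
        s - 2 * (Z.card : F) ≠ 0 → Cfsg.Geo.specialLinear J F ≤ K := by
      intro Z a b hZS haZ hbS hbZ hne
      set X := κ * (s - 2 * (Z.card : F)) with hX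
      have hX0 : X ≠ 0 := mul_ne_zero hκ0 hne
      obtain ⟨b', hb'⟩ := exists_avoid (s := ({0, 1, 1 - X⁻¹, 1 + X⁻¹} : Finset F))
        (Finset.card_le_four.trans_lt (by omega))
      simp only [Finset.mem_insert, Finset.mem_singleton, not_or] at hb'
      have e1 : κ * (s - (Z.card : F) + (Z.card : F) * (-1 : F)⁻¹) = X := by rw [hX, inv_neg, inv_one]; ring
      have e2 : κ * (s - (Z.card : F) + (Z.card : F) * (-1 : F)) = X := by rw [hX]; ring
      refine route Z a b hZS haZ hbS hbZ (-1) (by
        rw [Units.val_neg, Units.val_one]; intro e; exact hchar (by linear_combination -e))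
        b' hb'.1 hb'.2.1 ?_ ?_ ?_ <;> simp only [Units.val_neg, Units.val_one, e1, e2]
      · intro e
        apply hb'.2.2.1
        field_simp
        linear_combination e
      · intro e
        apply hb'.2.2.2
        field_simp
        linear_combination -e
      · intro e
        exact mul_ne_zero hX0 (sub_ne_zero.2 hb'.2.1) (by linear_combination -e)
    by_cases hs2 : s = 2
    · obtain ⟨l, hl, hli, hlk⟩ : ∃ l ∈ S, l ≠ i ∧ l ≠ k := by
        by_contra! hno
        have : S ⊆ {i, k} := fun j hj => by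
          rcases eq_or_ne j i with rfl | hji
          · simp
          · simp [hno j hj hji]
        have := (Finset.card_le_card this).trans Finset.card_le_two
        omega
      refine main {i, k} i l (fun j hj => ?_) (by simp) hl (by simp [hli, hlk]) ?_
      · rcases Finset.mem_insert.1 hj with rfl | hj
        · exact hiS
        · rw [Finset.mem_singleton] at hj; exact hj ▸ hkS
      · rw [Finset.card_pair hik, hs2]
        push_cast
        intro e
        exact hchar (by linear_combination -e)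
    · obtain ⟨b, hb, hbi⟩ := hex i
      refine main {i} i b (by simp [hiS]) (Finset.mem_singleton_self i) hb (by simp [hbi]) ?_
      simp only [Finset.card_singleton, Nat.cast_one, mul_one]
      exact sub_ne_zero.2 hs2

/-- A subgroup properly containing the monomial matrices contains the special linear group. -/
theorem specialLinear_le_of_monoAll (hJ : 4 ≤ Fintype.card J) (hq : 5 ≤ Fintype.card F)
    {K : Subgroup (GL J F)} (hK : MonoAll K) {g : GL J F} (hg : g ∈ K) (hgm : ¬ IsMono g) :
    Cfsg.Geo.specialLinear J F ≤ K := by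
  obtain ⟨j, i, k, hik, hi, hk⟩ := exists_two_of_not_isMono hgm
  exact root_of_ps hJ hq hK (Ps.of_mem hK hg j) hik hi hk

end CfsgLib.GeomClasses.DecompMax
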