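import Cfsg.Agent.Lib.GeomClasses.DecompMax.GLLevel

/-! A non-monomial element fixing a coordinate line, together with the monomial matrices of
determinant one, generates the special linear group. -/

set_option autoImplicit false
set_option linter.unusedSimpArgs false
set_option linter.unusedSectionVars false

namespace CfsgLib.GeomClasses.DecompMax

open Matrix
open scoped MatrixGroups

variable {J : Type} [Fintype J] [DecidableEq J] {F : Type*} [Field F] [Fintype F]

theorem mulVec_single_one_apply (A : Matrix J J F) (i j : J) :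
    (A *ᵥ Pi.single j 1) i = A i j := by simp [mulVec, dotProduct_single]

/-- Multiplication of the quotient blocks of two elements fixing the line of `p`. -/
theorem block_mul {p : J} {A B : Matrix J J F} (hA : ∀ i, i ≠ p → A i p = 0) (i j : {k // k ≠ p}) :
    (A * B) i j = (A.submatrix Subtype.val Subtype.val * B.submatrix Subtype.val Subtype.val :
      Matrix {k // k ≠ p} {k // k ≠ p} F) i j := by
  rw [Matrix.mul_apply, Matrix.mul_apply, ← Finset.sum_erase_add Finset.univ _ (Finset.mem_univ p),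
    hA i i.2, zero_mul, add_zero]
  exact Finset.sum_subtype (Finset.univ.erase p) (by simp) (fun k => A i k * B k j)

theorem fix_col_inv {p : J} {g : GL J F} (hg : ∀ i, i ≠ p → (g : Matrix J J F) i p = 0) :
    ∀ i, i ≠ p → ((g⁻¹ : GL J F) : Matrix J J F) i p = 0 := by
  have h : (g : Matrix J J F) *ᵥ Pi.single p 1 = (g : Matrix J J F) p p • Pi.single p 1 := by
    funext i
    rw [mulVec_single_one_apply]
    rcases eq_or_ne i p with rfl | hi
    · simp
    · simp [hg i hi, hi]
  have h2 := congrArg (((g⁻¹ : GL J F) : Matrix J J F) *ᵥ ·) h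
  simp only [gl_inv_mulVec_mulVec, mulVec_smul] at h2
  intro i hi
  have h3 := congrFun h2 i
  rw [Pi.single_eq_of_ne hi, Pi.smul_apply, smul_eq_mul, mulVec_single_one_apply] at h3
  refine (mul_eq_zero.1 h3.symm).resolve_left fun hpp => ?_
  apply gl_mulVec_ne_zero g (x := Pi.single p (1 : F)) (by simp)
  rw [h, hpp, zero_smul]

/-- The quotient blocks of the elements of `M` fixing the line of `p`. -/
def blockGroup (M : Subgroup (GL J F)) (p : J) : Subgroup (GL {k // k ≠ p} F) where
  carrier := {B | ∃ z ∈ M, (∀ i, i ≠ p → (z : Matrix J J F) i p = 0) ∧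
    (z : Matrix J J F).submatrix Subtype.val Subtype.val = (B : Matrix {k // k ≠ p} {k // k ≠ p} F)}
  one_mem' := ⟨1, M.one_mem, fun i hi => by simp [hi], by simp [Matrix.submatrix_one _ Subtype.val_injective]⟩
  mul_mem' := by
    rintro B C ⟨z, hz, hzp, hzB⟩ ⟨y, hy, hyp, hyC⟩
    refine ⟨z * y, M.mul_mem hz hy, fun i hi => ?_, ?_⟩
    · rw [Units.val_mul, Matrix.mul_apply, Finset.sum_eq_single p]
      · rw [hzp i hi, zero_mul]
      · intro k _ hk; rw [hyp k hk, mul_zero]
      · simp
    · ext i j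
      rw [submatrix_apply, Units.val_mul, block_mul hzp, hzB, hyC, Units.val_mul]
  inv_mem' := by
    rintro B ⟨z, hz, hzp, hzB⟩
    refine ⟨z⁻¹, M.inv_mem hz, fix_col_inv hzp, ?_⟩
    have h : (B : Matrix {k // k ≠ p} {k // k ≠ p} F) *
        ((z⁻¹ : GL J F) : Matrix J J F).submatrix Subtype.val Subtype.val = 1 := by
      ext i j
      rw [← hzB, ← block_mul hzp, ← Units.val_mul, mul_inv_cancel, Units.val_one]
      simp [Matrix.one_apply, Subtype.ext_iff]
    calc ((z⁻¹ : GL J F) : Matrix J J F).submatrix Subtype.val Subtype.val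
        = ((B⁻¹ : GL {k // k ≠ p} F) : Matrix {k // k ≠ p} {k // k ≠ p} F) *
          ((B : Matrix {k // k ≠ p} {k // k ≠ p} F) *
            ((z⁻¹ : GL J F) : Matrix J J F).submatrix Subtype.val Subtype.val) := by
          rw [← Matrix.mul_assoc, ← Units.val_mul, inv_mul_cancel, Units.val_one, Matrix.one_mul]
      _ = _ := by rw [h, Matrix.mul_one]

theorem extend_perm_apply {p : J} (π : Equiv.Perm {k // k ≠ p}) (i : {k // k ≠ p}) :
    Equiv.Perm.ofSubtype π (i : J) = (π i : J) := Equiv.Perm.ofSubtype_apply_coe π i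

theorem extend_perm_fix {p : J} (π : Equiv.Perm {k // k ≠ p}) : Equiv.Perm.ofSubtype π p = p :=
  Equiv.Perm.ofSubtype_apply_of_not_mem π (by simp)

theorem exists_mono_block {M : Subgroup (GL J F)} (hM : MonoSL M) {p : J}
    (π : Equiv.Perm {k // k ≠ p}) (d : {k // k ≠ p} → Fˣ) :
    ∃ π' d', monoGL π' d' ∈ M ∧ (∀ i, i ≠ p → ((monoGL π' d' : GL J F) : Matrix J J F) i p = 0) ∧
      ((monoGL π' d' : GL J F) : Matrix J J F).submatrix Subtype.val Subtype.val =
        ((monoGL π d : GL {k // k ≠ p} F) : Matrix {k // k ≠ p} {k // k ≠ p} F) := by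
  obtain ⟨x, hx⟩ := exists_monoGL_det_one hM (Equiv.Perm.ofSubtype π)
    (fun k => if h : k ≠ p then d ⟨k, h⟩ else 1) p
  refine ⟨_, _, hx, fun i hi => ?_, ?_⟩
  · show monoMat _ _ i p = 0
    simp [monoMat, extend_perm_fix, hi]
  · ext i j
    show monoMat _ _ (i : J) (j : J) = monoMat π d i j
    simp [monoMat, extend_perm_apply, Function.update_of_ne j.2, j.2, Subtype.ext_iff]

theorem monoAll_blockGroup {M : Subgroup (GL J F)} (hM : MonoSL M) (p : J) : MonoAll (blockGroup M p) := by
  intro π d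
  obtain ⟨π', d', h⟩ := exists_mono_block hM π d
  exact ⟨_, h⟩

/-- An element with trivial quotient block at a fixed line is a transvection. -/
theorem eq_tv_of_block {p : J} {u : GL J F} (hu : (u : Matrix J J F).det = 1)
    (hcol : ∀ i, i ≠ p → (u : Matrix J J F) i p = 0)
    (hblock : ∀ i j, i ≠ p → j ≠ p → (u : Matrix J J F) i j = (1 : Matrix J J F) i j) :
    ∃ r : J → F, r p = 0 ∧ u = tv (Pi.single p 1) r := by
  have hpp : (u : Matrix J J F) p p ≠ 0 := by
    intro h
    apply gl_mulVec_ne_zero u (x := Pi.single p (1 : F)) (by simp)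
    funext i
    rw [mulVec_single_one_apply]
    rcases eq_or_ne i p with rfl | hi
    · exact h
    · exact hcol i hi
  set a := Units.mk0 _ hpp with ha
  set r₀ : J → F := fun j => if j = p then 0 else (u : Matrix J J F) p j / (u : Matrix J J F) p p with hr₀
  have h0 : r₀ ⬝ᵥ Pi.single p (1 : F) = 0 := by simp [hr₀]
  have hdec : u = monoGL 1 (Function.update (fun _ => (1 : Fˣ)) p a) * tv (Pi.single p 1) r₀ := by
    apply gl_ext
    intro x
    funext i
    rw [gl_mul_mulVec, monoGL_mulVec, tv_mulVec h0]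
    simp only [one_perm_symm_apply, Pi.add_apply, Pi.smul_apply, smul_eq_mul]
    rcases eq_or_ne i p with rfl | hi
    · simp only [Function.update_self, Pi.single_eq_same, mul_one, ha, Units.val_mk0, mul_add]
      simp only [mulVec, dotProduct]
      rw [← Finset.add_sum_erase Finset.univ _ (Finset.mem_univ i),
        ← Finset.add_sum_erase Finset.univ (fun j => r₀ j * x j) (Finset.mem_univ i)]
      simp only [hr₀, if_pos, zero_mul, zero_add, Finset.mul_sum]
      congr 1
      refine Finset.sum_congr rfl fun j hj => ?_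
      rw [if_neg (Finset.ne_of_mem_erase hj)]
      field_simp
    · simp only [Function.update_of_ne hi, Pi.single_eq_of_ne hi, mul_zero, add_zero, Units.val_one, one_mul]
      simp only [mulVec, dotProduct]
      rw [Finset.sum_eq_single i]
      · rw [hblock i i hi hi, Matrix.one_apply_eq, one_mul]
      · intro j _ hj
        rcases eq_or_ne j p with rfl | hjp
        · rw [hcol i hi, zero_mul]
        · rw [hblock i j hi hjp, Matrix.one_apply_ne (Ne.symm hj), zero_mul]
      · simp
  have hdet := hu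
  rw [hdec, Units.val_mul, det_mul, mem_specialLinear.1 (tv_mem_specialLinear _ _), mul_one, monoGL_det,
    Finset.prod_eq_single p (fun j _ hj => by simp [Function.update_of_ne hj]) (by simp)] at hdet
  simp only [map_one, Units.val_one, Int.cast_one, one_mul, Function.update_self] at hdet
  refine ⟨r₀, by simp [hr₀], hdec.trans ?_⟩
  rw [show a = 1 from Units.ext hdet, Function.update_eq_self,
    show monoGL (1 : Equiv.Perm J) (fun _ => (1 : Fˣ)) = 1 from Units.ext monoMat_one, one_mul]

theorem exists_unit_sq_cube (hq : 5 ≤ Fintype.card F) :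
    ∃ ν : Fˣ, ν ^ 2 ≠ 1 ∧ ν ^ 3 ≠ 1 := by
  classical
  obtain ⟨ν, hν⟩ := IsCyclic.exists_ofOrder_eq_natCard (α := Fˣ)
  rw [Nat.card_units, Nat.card_eq_fintype_card] at hν
  exact ⟨ν, pow_ne_one_of_lt_orderOf (by norm_num) (by omega),
    pow_ne_one_of_lt_orderOf (by norm_num) (by omega)⟩

/-- A non-monomial element fixing a coordinate line. -/
theorem specialLinear_le_of_fix_line (hJ : 5 ≤ Fintype.card J) (hq : 5 ≤ Fintype.card F)
    {M : Subgroup (GL J F)} (hM : MonoSL M) (hMS : M ≤ Cfsg.Geo.specialLinear J F) {z : GL J F}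
    (hz : z ∈ M) (hzn : ¬ IsMono z) {p : J} (hp : ∀ i, i ≠ p → (z : Matrix J J F) i p = 0) :
    Cfsg.Geo.specialLinear J F ≤ M := by
  classical
  set K := blockGroup M p
  have hcard : 4 ≤ Fintype.card {k // k ≠ p} := by
    simp only [ne_eq, Fintype.card_subtype_compl, Fintype.card_unique]
    omega
  -- the block of `z`
  obtain ⟨B, hB⟩ : ∃ B : GL {k // k ≠ p} F, (z : Matrix J J F).submatrix Subtype.val Subtype.val =
      (B : Matrix {k // k ≠ p} {k // k ≠ p} F) := by
    have key : ∀ z : GL J F, (∀ i, i ≠ p → (z : Matrix J J F) i p = 0) →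
        (z : Matrix J J F).submatrix Subtype.val Subtype.val *
          ((z⁻¹ : GL J F) : Matrix J J F).submatrix Subtype.val Subtype.val =
            (1 : Matrix {k // k ≠ p} {k // k ≠ p} F) := fun z hz => by
      ext i j
      rw [← block_mul hz, ← Units.val_mul, mul_inv_cancel, Units.val_one]
      simp [Matrix.one_apply, Subtype.ext_iff]
    refine ⟨⟨_, ((z⁻¹ : GL J F) : Matrix J J F).submatrix Subtype.val Subtype.val, key z hp, ?_⟩, rfl⟩
    simpa using key z⁻¹ (fix_col_inv hp)
  by_cases hmono : IsMono B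
  · -- the block is monomial
    obtain ⟨π, d, rfl⟩ := hmono
    obtain ⟨π', d', hh, hhp, hhB⟩ := exists_mono_block hM π d
    set h := monoGL π' d' with hhdef
    have hcol : ∀ i, i ≠ p → ((h⁻¹ * z : GL J F) : Matrix J J F) i p = 0 := fun i hi => by
      rw [Units.val_mul, Matrix.mul_apply, Finset.sum_eq_single p]
      · rw [fix_col_inv hhp i hi, zero_mul]
      · intro k _ hk; rw [hp k hk, mul_zero]
      · simp
    have hblock : ∀ i j, i ≠ p → j ≠ p →
        ((h⁻¹ * z : GL J F) : Matrix J J F) i j = (1 : Matrix J J F) i j := fun i j hi hj => by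
      have e := block_mul (B := (z : Matrix J J F)) (fix_col_inv hhp) ⟨i, hi⟩ ⟨j, hj⟩
      rw [hB, ← hhB, ← block_mul (fix_col_inv hhp), ← Units.val_mul, ← Units.val_mul, inv_mul_cancel] at e
      simpa using e
    have hmem := M.mul_mem (M.inv_mem hh) hz
    obtain ⟨r, hrp, hr⟩ := eq_tv_of_block (mem_specialLinear.1 (hMS hmem)) hcol hblock
    refine root_of_left (by omega) (by omega) hM one_ne_zero ?_ hrp (hr ▸ hmem)
    intro hr0
    apply hzn
    have h1 : h⁻¹ * z = 1 := by rw [hr, hr0]; exact gl_ext fun v => by simp [tv_mulVec]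
    exact ⟨π', d', (inv_mul_eq_one.1 h1).symm⟩
  -- the blocks contain the special linear group
  · have hSL := specialLinear_le_of_monoAll hcard hq (monoAll_blockGroup hM p) ⟨z, hz, hp, hB⟩ hmono
    obtain ⟨c₁, c₂, hcc⟩ := Fintype.exists_pair_of_one_lt_card (show 1 < Fintype.card {k // k ≠ p} by omega)
    obtain ⟨u, hu, hup, huB⟩ := hSL (tv_mem_specialLinear (Pi.single c₁ 1) (Pi.single c₂ 1))
    have h12 : (c₁ : J) ≠ c₂ := fun e => hcc (Subtype.ext e)
    set T : GL J F := tv (Pi.single (c₁ : J) 1) (Pi.single (c₂ : J) 1) with hT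
    have hT0 : (Pi.single (c₂ : J) (1 : F) : J → F) ⬝ᵥ Pi.single (c₁ : J) 1 = 0 := by simp [h12]
    have hTcol : ∀ i, i ≠ p → (T : Matrix J J F) i p = 0 := fun i hi => by
      rw [hT, tv_val hT0]; simp [hi, vecMulVec_apply, Ne.symm c₂.2]
    have hTB : (T : Matrix J J F).submatrix (Subtype.val : {k // k ≠ p} → J) (Subtype.val : {k // k ≠ p} → J) =
        (u : Matrix J J F).submatrix (Subtype.val : {k // k ≠ p} → J) (Subtype.val : {k // k ≠ p} → J) := by
      rw [huB, hT, tv_val hT0, tv_val (by simp [hcc])]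
      ext i j
      simp [Matrix.one_apply, vecMulVec_apply, Pi.single_apply, Subtype.ext_iff]
    have hcol : ∀ i, i ≠ p → ((T⁻¹ * u : GL J F) : Matrix J J F) i p = 0 := fun i hi => by
      rw [Units.val_mul, Matrix.mul_apply, Finset.sum_eq_single p]
      · rw [fix_col_inv hTcol i hi, zero_mul]
      · intro k _ hk; rw [hup k hk, mul_zero]
      · simp
    have hblock : ∀ i j, i ≠ p → j ≠ p →
        ((T⁻¹ * u : GL J F) : Matrix J J F) i j = (1 : Matrix J J F) i j := fun i j hi hj => by
      have e := block_mul (B := (u : Matrix J J F)) (fix_col_inv hTcol) ⟨i, hi⟩ ⟨j, hj⟩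
      rw [← hTB, ← block_mul (fix_col_inv hTcol), ← Units.val_mul, ← Units.val_mul, inv_mul_cancel] at e
      simpa using e
    have hdet : ((T⁻¹ * u : GL J F) : Matrix J J F).det = 1 :=
      mem_specialLinear.1 ((Cfsg.Geo.specialLinear J F).mul_mem
        (Subgroup.inv_mem _ (tv_mem_specialLinear _ _)) (hMS hu))
    obtain ⟨r, hrp, hr⟩ := eq_tv_of_block hdet hcol hblock
    have hu' : u = T * tv (Pi.single p 1) r := by rw [← hr, mul_inv_cancel_left]
    have h0 : r ⬝ᵥ Pi.single p (1 : F) = 0 := by simp [hrp]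
    by_cases hr0 : r = 0
    · have hone : tv (Pi.single p (1 : F)) 0 = (1 : GL J F) := gl_ext fun v => by simp [tv_mulVec]
      rw [hu', hr0, hone, mul_one] at hu
      exact specialLinear_le_of_root (by omega) hM h12 one_ne_zero hu
    obtain ⟨ν, hν2, hν3⟩ := exists_unit_sq_cube hq
    have hd := M.mul_mem (exists_diag_pair hM (c₁ : J) p c₁.2 ν) (exists_diag_pair hM (c₂ : J) p c₂.2 ν)
    rw [monoGL_mul, one_mul] at hd
    simp only [Equiv.Perm.one_apply] at hd
    set δ : J → Fˣ := fun j => Function.update (Function.update (fun _ => (1 : Fˣ)) (c₁ : J) ν) p ν⁻¹ j *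
      Function.update (Function.update (fun _ => (1 : Fˣ)) (c₂ : J) ν) p ν⁻¹ j with hδ
    have hδp : δ p = ν⁻¹ * ν⁻¹ := by simp [hδ]
    have hδ1 : δ c₁ = ν := by simp [hδ, c₁.2, h12]
    have hδ2 : δ c₂ = ν := by simp [hδ, c₂.2, Ne.symm h12]
    have hδo : ∀ j, j ≠ p → j ≠ c₁ → j ≠ c₂ → δ j = 1 := fun j h1 h2 h3 => by simp [hδ, h1, h2, h3]
    set d := monoGL (1 : Equiv.Perm J) δ with hddef
    have hdT : d * T * d⁻¹ = T := by
      rw [hT, conj_tv _ hT0, hddef, monoGL_mulVec_single, Equiv.Perm.one_apply, hδ1, mul_one,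
        show (Pi.single (c₁ : J) (ν : F) : J → F) = (ν : F) • Pi.single (c₁ : J) 1 by
          rw [← Pi.single_smul]; simp]
      have e : (Pi.single (c₂ : J) (1 : F) : J → F) ᵥ* (((monoGL (1 : Equiv.Perm J) δ)⁻¹ : GL J F) : Matrix J J F) =
          (ν : F)⁻¹ • Pi.single (c₂ : J) 1 := by
        funext j
        rw [monoGL_inv, monoGL_vecMul]
        rcases eq_or_ne j c₂ with rfl | hj
        · simp [hδ2]
        · simp [hj]
      rw [e, tv_smul_comm (by simp [h12]), smul_smul, mul_inv_cancel₀ ν.ne_zero, one_smul]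
    set r' : J → F := fun j => ((ν : F)⁻¹ * (ν : F)⁻¹) * (r j * ((δ j : F))⁻¹) with hr'
    have h0' : r' ⬝ᵥ Pi.single p (1 : F) = 0 := by simp [hr', hrp]
    have hdR : d * tv (Pi.single p 1) r * d⁻¹ = tv (Pi.single p 1) r' := by
      rw [conj_tv _ h0, hddef, monoGL_mulVec_single, Equiv.Perm.one_apply, hδp, mul_one,
        show (Pi.single p ((ν⁻¹ * ν⁻¹ : Fˣ) : F) : J → F) = ((ν : F)⁻¹ * (ν : F)⁻¹) • Pi.single p 1 by
          rw [← Pi.single_smul]; simp]
      rw [tv_smul_comm ?_]
      · congr 1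
        funext j
        rw [Pi.smul_apply, monoGL_inv, monoGL_vecMul]
        simp [hr']
      · rw [dotProduct_single, monoGL_inv, monoGL_vecMul]
        simp [hrp]
    have hmem := M.mul_mem (M.inv_mem hu) (M.mul_mem (M.mul_mem hd hu) (M.inv_mem hd))
    have hcalc : u⁻¹ * (d * u * d⁻¹) = tv (Pi.single p 1) (r' - r) := by
      rw [hu', show d * (T * tv (Pi.single p 1) r) * d⁻¹ = (d * T * d⁻¹) * (d * tv (Pi.single p 1) r * d⁻¹) by group,
        hdT, hdR, _root_.mul_inv_rev, mul_assoc, inv_mul_cancel_left, tv_inv h0,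
        show -(Pi.single p (1 : F) : J → F) = (-1 : F) • Pi.single p 1 by simp, tv_smul_comm h0,
        tv_mul_tv_right (by simp [hrp]) h0']
      congr 1
      simp [sub_eq_add_neg, add_comm]
    rw [hcalc] at hmem
    refine root_of_left (by omega) (by omega) hM one_ne_zero ?_ (by simp [hr', hrp]) hmem
    intro hzero
    obtain ⟨j, hj⟩ := Function.ne_iff.1 hr0
    have hjp : j ≠ p := fun e => hj (by rw [e]; exact hrp)
    have he := congrFun hzero j
    simp only [Pi.sub_apply, Pi.zero_apply, hr', sub_eq_zero] at he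
    have hν0 := ν.ne_zero
    have h1 : ((ν : F)⁻¹ * (ν : F)⁻¹) * ((δ j : F))⁻¹ = 1 :=
      mul_right_cancel₀ hj (by rw [one_mul]; linear_combination he)
    have hor : (δ j : F) = ν ∨ (δ j : F) = 1 := by
      rcases eq_or_ne j c₁ with rfl | h2
      · exact Or.inl (by rw [hδ1])
      rcases eq_or_ne j c₂ with rfl | h3
      · exact Or.inl (by rw [hδ2])
      · exact Or.inr (by rw [hδo j hjp h2 h3, Units.val_one])
    rcases hor with h2 | h2 <;> rw [h2] at h1
    · exact hν3 (Units.ext (by push_cast; field_simp at h1; linear_combination -h1))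
    · exact hν2 (Units.ext (by push_cast; field_simp at h1; linear_combination -h1))

end CfsgLib.GeomClasses.DecompMax
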