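import Cfsg.Agent.Lib.GeomClasses.DecompMax.ZeroPattern

/-!
The monomial matrices of determinant one form a maximal subgroup of the special linear group in degree
four when the field has at least seven elements.  Up to scalars an overgroup contains the pseudo-reflections
with a fourth power as eigenvalue at each coordinate.  In a proper overgroup a conjugate of one of them
has centre and axis with the same support, and, the support having at least three elements, equal
products of coordinates; this fails for a second conjugate.  So every column has at most two non-zero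
entries, and a product of two non-monomial elements violates this.
-/

set_option autoImplicit false
set_option linter.unusedSimpArgs false
set_option linter.unusedSectionVars false

namespace CfsgLib.GeomClasses.DecompMax

open Matrix
open scoped MatrixGroups

namespace Four

variable {J : Type} [Fintype J] [DecidableEq J] {F : Type*} [Field F] [Fintype F]

/-- A scalar element. -/
def sc (a : Fˣ) : GL J F := monoGL 1 fun _ => a

theorem sc_mulVec (a : Fˣ) (x : J → F) : ((sc a : GL J F) : Matrix J J F) *ᵥ x = (a : F) • x := by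
  funext i
  rw [sc, monoGL_mulVec]
  simp

theorem sc_comm (a : Fˣ) (x : GL J F) : sc a * x = x * sc a := by
  refine gl_ext fun v => ?_
  rw [gl_mul_mulVec, gl_mul_mulVec, sc_mulVec, sc_mulVec, mulVec_smul]

theorem sc_mul (a b : Fˣ) : (sc a * sc b : GL J F) = sc (a * b) := by
  rw [sc, sc, monoGL_mul, mul_one]
  rfl

/-- The elements some scalar multiple of which lies in `M`. -/
def scal (M : Subgroup (GL J F)) : Subgroup (GL J F) where
  carrier := {x | ∃ a : Fˣ, x * sc a ∈ M}
  one_mem' := ⟨1, by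
    rw [one_mul, show (sc 1 : GL J F) = 1 from Units.ext monoMat_one]
    exact M.one_mem⟩
  mul_mem' := by
    rintro x y ⟨a, ha⟩ ⟨b, hb⟩
    refine ⟨a * b, ?_⟩
    have h := M.mul_mem ha hb
    rwa [mul_assoc, ← mul_assoc (sc a) y, sc_comm, mul_assoc y, sc_mul, ← mul_assoc] at h
  inv_mem' := by
    rintro x ⟨a, ha⟩
    refine ⟨a⁻¹, ?_⟩
    have h := M.inv_mem ha
    rwa [_root_.mul_inv_rev, show (sc a : GL J F)⁻¹ = sc a⁻¹ from monoGL_inv 1 _, sc_comm] at h

variable {M : Subgroup (GL J F)}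

theorem le_scal : M ≤ scal M := fun x hx => ⟨1, by
  rwa [show (sc 1 : GL J F) = 1 from Units.ext monoMat_one, mul_one]⟩

theorem mem_of_det (hM : MonoSL M) (hMS : M ≤ Cfsg.Geo.specialLinear J F) {x : GL J F}
    (hx : x ∈ scal M) (hd : (x : Matrix J J F).det = 1) : x ∈ M := by
  obtain ⟨a, ha⟩ := hx
  have h := mem_specialLinear.1 (hMS ha)
  rw [Units.val_mul, det_mul, hd, one_mul] at h
  have := M.mul_mem ha (M.inv_mem (hM _ _ h))
  rwa [show (monoGL 1 fun _ => a) = (sc a : GL J F) from rfl, mul_inv_cancel_right] at this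

theorem mono_mem (hJ : Fintype.card J = 4) (hM : MonoSL M) (π : Equiv.Perm J) (d : J → Fˣ) (a : Fˣ)
    (h : ((monoGL π d : GL J F) : Matrix J J F).det = (a : F) ^ 4) : monoGL π d ∈ scal M := by
  refine ⟨a⁻¹, ?_⟩
  rw [sc, monoGL_mul]
  apply hM
  rw [← monoGL_mul, Units.val_mul, det_mul, h, monoGL_det, Finset.prod_const, Finset.card_univ, hJ]
  simp [← mul_pow]

/-- `K` contains the element adding to `x` the multiple `χ ⬝ᵥ x` of `w`. -/
def Rk1 (K : Subgroup (GL J F)) (w χ : J → F) : Prop :=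
  ∃ N ∈ K, ∀ x, (N : Matrix J J F) *ᵥ x = x + (χ ⬝ᵥ x) • w

variable {K : Subgroup (GL J F)} {w χ χ' : J → F}

theorem Rk1.one_add_ne (h : Rk1 K w χ) : 1 + χ ⬝ᵥ w ≠ 0 := by
  intro h0
  rcases eq_or_ne w 0 with rfl | hw
  · simp at h0
  obtain ⟨N, -, hN⟩ := h
  refine gl_mulVec_ne_zero N hw ?_
  rw [hN]
  funext i
  simp only [Pi.add_apply, Pi.smul_apply, smul_eq_mul, Pi.zero_apply]
  linear_combination w i * h0

theorem Rk1.conj (h : Rk1 K w χ) {g : GL J F} (hg : g ∈ K) :
    Rk1 K ((g : Matrix J J F) *ᵥ w) (χ ᵥ* ((g⁻¹ : GL J F) : Matrix J J F)) := by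
  obtain ⟨N, hNK, hN⟩ := h
  refine ⟨g * N * g⁻¹, K.mul_mem (K.mul_mem hg hNK) (K.inv_mem hg), fun x => ?_⟩
  rw [gl_mul_mulVec, gl_mul_mulVec, hN, mulVec_add, mulVec_smul, gl_mulVec_inv_mulVec, dotProduct_mulVec]

/-- The diagonal element with one entry different from one. -/
def dia (k : J) (μ : Fˣ) : GL J F := monoGL 1 (Function.update (fun _ => 1) k μ)

theorem dia_mulVec (k : J) (μ : Fˣ) (x : J → F) :
    ((dia k μ : GL J F) : Matrix J J F) *ᵥ x = x + Pi.single k (((μ : F) - 1) * x k) := by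
  funext i
  rw [dia, monoGL_mulVec, one_perm_symm_apply, Pi.add_apply]
  rcases eq_or_ne i k with rfl | h
  · simp only [Function.update_self, Pi.single_eq_same]; ring
  · simp [Function.update_of_ne h, h]

theorem dia_inv (k : J) (μ : Fˣ) : (dia k μ : GL J F)⁻¹ = dia k μ⁻¹ := by
  rw [dia, monoGL_inv, dia, inv_one]
  congr 1
  funext j
  rw [one_perm_symm_apply]
  rcases eq_or_ne j k with rfl | h
  · simp
  · simp [Function.update_of_ne h]

theorem vecMul_dia (k : J) (μ : Fˣ) (χ : J → F) :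
    χ ᵥ* ((dia k μ : GL J F) : Matrix J J F) = χ + Pi.single k (((μ : F) - 1) * χ k) := by
  funext i
  rw [dia, monoGL_vecMul, Equiv.Perm.one_apply, Pi.add_apply]
  rcases eq_or_ne i k with rfl | h
  · simp only [Function.update_self, Pi.single_eq_same]; ring
  · simp [Function.update_of_ne h, h]

variable (hJ : Fintype.card J = 4) (hq : 7 ≤ Fintype.card F) (hM : MonoSL M)
  (hMS : M ≤ Cfsg.Geo.specialLinear J F) (hcon : ¬ Cfsg.Geo.specialLinear J F ≤ M)

include hJ hq hM in
theorem exists_dia : ∃ μ : Fˣ, (μ : F) ≠ 1 ∧ ∀ k : J, dia k μ ∈ scal M := by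
  classical
  obtain ⟨ν, hν⟩ := IsCyclic.exists_ofOrder_eq_natCard (α := Fˣ)
  rw [Nat.card_units, Nat.card_eq_fintype_card] at hν
  have h4 : ν ^ 4 ≠ 1 := pow_ne_one_of_lt_orderOf (by norm_num) (by omega)
  refine ⟨ν ^ 4, fun e => h4 (Units.ext e), fun k => mono_mem hJ hM _ _ ν ?_⟩
  rw [monoGL_det, Finset.prod_eq_single k (fun j _ hj => by simp [Function.update_of_ne hj]) (by simp)]
  simp

include hJ hq hM hMS hcon in
theorem no_left {a : J} {c : F} {φ : J → F} (hc : c ≠ 0) (hφ : φ ≠ 0) (hφa : φ a = 0)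
    (ht : tv (Pi.single a c) φ ∈ scal M) : False :=
  hcon (root_of_left (by omega) (by omega) hM hc hφ hφa
    (mem_of_det hM hMS ht (mem_specialLinear.1 (tv_mem_specialLinear _ _))))

include hJ hq hM hMS hcon in
theorem no_right {b : J} {c : F} {v : J → F} (hc : c ≠ 0) (hv : v ≠ 0) (hvb : v b = 0)
    (ht : tv v (Pi.single b c) ∈ scal M) : False :=
  hcon (root_of_right (by omega) (by omega) hM hc hv hvb
    (mem_of_det hM hMS ht (mem_specialLinear.1 (tv_mem_specialLinear _ _))))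

include hJ hq hM hMS hcon in
theorem supp_left (h : Rk1 (scal M) w χ) (hχ : χ ≠ 0) {k : J} (hk : χ k = 0) : w k = 0 := by
  by_contra hwk
  obtain ⟨μ, hμ, hμK⟩ := exists_dia hJ hq hM
  have hs := h.one_add_ne
  have h' := h.conj (hμK k)
  rw [dia_mulVec, dia_inv, vecMul_dia, hk, mul_zero, Pi.single_zero, add_zero] at h'
  obtain ⟨N, hNK, hN⟩ := h
  obtain ⟨N', hN'K, hN'⟩ := h'
  set z := ((μ : F) - 1) * w k with hz
  set c := z / (1 + χ ⬝ᵥ w) with hc
  have hT : tv (Pi.single k c) χ * N = N' := by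
    refine gl_ext fun x => ?_
    have h0 : χ ⬝ᵥ Pi.single k c = 0 := by simp [hk]
    rw [gl_mul_mulVec, tv_mulVec h0, hN, hN', dotProduct_add, dotProduct_smul, smul_eq_mul]
    funext i
    simp only [Pi.add_apply, Pi.smul_apply, smul_eq_mul]
    rcases eq_or_ne i k with rfl | hi
    · simp only [Pi.single_eq_same, hc]
      field_simp
      ring
    · simp only [Pi.single_eq_of_ne hi]; ring
  refine no_left hJ hq hM hMS hcon (c := c) ?_ hχ hk ?_
  · exact div_ne_zero (mul_ne_zero (sub_ne_zero.2 hμ) hwk) hs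
  · rw [eq_mul_inv_of_mul_eq hT]
    exact (scal M).mul_mem hN'K ((scal M).inv_mem hNK)

include hJ hq hM hMS hcon in
theorem supp_right (h : Rk1 (scal M) w χ) (hw : w ≠ 0) {k : J} (hk : w k = 0) : χ k = 0 := by
  by_contra hχk
  obtain ⟨μ, hμ, hμK⟩ := exists_dia hJ hq hM
  have h' := h.conj (hμK k)
  rw [dia_mulVec, dia_inv, vecMul_dia, hk, mul_zero, Pi.single_zero, add_zero] at h'
  obtain ⟨N, hNK, hN⟩ := h
  obtain ⟨N', hN'K, hN'⟩ := h'
  set c := (((μ⁻¹ : Fˣ) : F) - 1) * χ k with hc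
  have hT : tv w (Pi.single k c) * N = N' := by
    refine gl_ext fun x => ?_
    have h0 : (Pi.single k c : J → F) ⬝ᵥ w = 0 := by simp [hk]
    rw [gl_mul_mulVec, tv_mulVec h0, hN, hN', dotProduct_add, dotProduct_smul, h0, smul_zero, add_zero,
      add_dotProduct, add_smul, add_assoc]
  refine no_right hJ hq hM hMS hcon (c := c) ?_ hw hk ?_
  · refine mul_ne_zero (sub_ne_zero.2 fun e => hμ ?_) hχk
    rw [Units.val_inv_eq_inv_val, inv_eq_one] at e
    exact e
  · rw [eq_mul_inv_of_mul_eq hT]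
    exact (scal M).mul_mem hN'K ((scal M).inv_mem hNK)

include hJ hq hM hMS hcon in
theorem same_centre (h : Rk1 (scal M) w χ) (h' : Rk1 (scal M) w χ') (hd : χ' ⬝ᵥ w = χ ⬝ᵥ w)
    {k : J} (hk : χ' k = χ k) (hwk : w k ≠ 0) : χ' = χ := by
  by_contra hne
  refine hwk (supp_left hJ hq hM hMS hcon (χ := χ' - χ) ?_ (sub_ne_zero.2 hne) (by simp [hk]))
  obtain ⟨N, hNK, hN⟩ := h
  obtain ⟨N', hN'K, hN'⟩ := h'
  refine ⟨N' * N⁻¹, (scal M).mul_mem hN'K ((scal M).inv_mem hNK), fun y => ?_⟩
  obtain ⟨x, rfl⟩ : ∃ x, y = (N : Matrix J J F) *ᵥ x := ⟨_, (gl_mulVec_inv_mulVec N y).symm⟩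
  rw [gl_mul_mulVec, gl_inv_mulVec_mulVec, hN', hN, dotProduct_add, dotProduct_smul, sub_dotProduct,
    sub_dotProduct, hd, sub_self, smul_zero, add_zero, add_assoc, ← add_smul, add_sub_cancel]

include hJ hq hM hMS hcon in
theorem perm_invariant (h : Rk1 (scal M) w χ) {π : Equiv.Perm J} {d : J → Fˣ}
    (hm : monoGL π d ∈ scal M) (hd : ∀ a, (d a : F) * w a = w (π a)) {k : J} (hπk : π k = k)
    (hwk : w k ≠ 0) (a : J) : w (π a) * χ (π a) = w a * χ a := by
  have h' := h.conj hm
  have e1 : ((monoGL π d : GL J F) : Matrix J J F) *ᵥ w = w := by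
    funext i
    rw [monoGL_mulVec, hd, Equiv.apply_symm_apply]
  rw [e1] at h'
  have e2 : ∀ a, (χ ᵥ* (((monoGL π d)⁻¹ : GL J F) : Matrix J J F)) (π a) = χ a * ((d a : F))⁻¹ := by
    intro a
    rw [monoGL_inv, monoGL_vecMul]
    simp [Equiv.Perm.inv_def]
  have hdk : (d k : F) = 1 := mul_right_cancel₀ hwk (by rw [hd, hπk, one_mul])
  have heq := same_centre hJ hq hM hMS hcon h h' ?_ (k := k) ?_ hwk
  · have := congrFun heq (π a)
    rw [e2] at this
    rw [← this, ← hd]
    field_simp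
  · conv_lhs => rw [← e1]
    rw [← dotProduct_mulVec, gl_inv_mulVec_mulVec]
  · conv_lhs => rw [← hπk, e2]
    rw [hdk, inv_one, mul_one]

include hJ hq hM hMS hcon in
theorem uniform (h : Rk1 (scal M) w χ) {i j k : J} (hi : w i ≠ 0) (hj : w j ≠ 0) (hk : w k ≠ 0)
    (hij : i ≠ j) (hki : k ≠ i) (hkj : k ≠ j) : w i * χ i = w j * χ j := by
  classical
  by_cases hall : ∀ a, w a ≠ 0
  · obtain ⟨l, hli, hlj, hlk⟩ := exists_fourth (show 4 ≤ Fintype.card J by omega) i j k
    set π := Equiv.swap i j * Equiv.swap j l with hπ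
    have hπk : π k = k := by
      simp [hπ, Equiv.swap_apply_of_ne_of_ne hki hkj, Equiv.swap_apply_of_ne_of_ne hkj (Ne.symm hlk)]
    have hπi : π i = j := by simp [hπ, Equiv.swap_apply_of_ne_of_ne hij (Ne.symm hli)]
    set d : J → Fˣ := fun a => Units.mk0 (w (π a) / w a) (div_ne_zero (hall _) (hall _)) with hd
    have hm : monoGL π d ∈ scal M := by
      refine le_scal (hM _ _ ?_)
      have h1 : ∏ a, (d a : F) = 1 := by
        simp only [hd, Units.val_mk0, Finset.prod_div_distrib, Equiv.prod_comp π w]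
        exact div_self (Finset.prod_ne_zero_iff.2 fun a _ => hall a)
      rw [monoGL_det, h1, hπ, Equiv.Perm.sign_mul, Equiv.Perm.sign_swap hij, Equiv.Perm.sign_swap (Ne.symm hlj)]
      simp
    have := perm_invariant hJ hq hM hMS hcon h hm (fun a => by simp [hd, hall a]) hπk hk i
    rw [hπi] at this
    exact this.symm
  · push Not at hall
    obtain ⟨o, ho⟩ := hall
    have hoi : o ≠ i := fun e => hi (e ▸ ho)
    have hoj : o ≠ j := fun e => hj (e ▸ ho)
    set d₀ : J → Fˣ := Function.update (Function.update (fun _ => (1 : Fˣ)) i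
      (Units.mk0 (w j / w i) (div_ne_zero hj hi))) j (Units.mk0 (w i / w j) (div_ne_zero hi hj)) with hd₀
    obtain ⟨x, hx⟩ := exists_monoGL_det_one hM (Equiv.swap i j) d₀ o
    have := perm_invariant hJ hq hM hMS hcon h (le_scal hx) (fun a => ?_)
      (Equiv.swap_apply_of_ne_of_ne hki hkj) hk i
    · rw [Equiv.swap_apply_left] at this
      exact this.symm
    · rcases eq_or_ne a o with rfl | hao
      · rw [ho, mul_zero, Equiv.swap_apply_of_ne_of_ne hoi hoj, ho]
      rw [Function.update_of_ne hao]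
      rcases eq_or_ne a i with rfl | hai
      · simp [hd₀, hij, hi]
      rcases eq_or_ne a j with rfl | haj
      · simp [hd₀, hj]
      · simp [hd₀, hai, haj, Equiv.swap_apply_of_ne_of_ne hai haj]

include hJ in
theorem sum_four {i l j o : J} (h1 : i ≠ l) (h2 : i ≠ j) (h3 : i ≠ o) (h4 : l ≠ j) (h5 : l ≠ o) (h6 : j ≠ o)
    (f : J → F) : ∑ a, f a = f i + f l + f j + f o := by
  have hu : ({i, l, j, o} : Finset J) = Finset.univ :=
    Finset.eq_univ_of_card _ (by simp [h1, h2, h3, h4, h5, h6, hJ])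
  rw [← hu]
  simp [h1, h2, h3, h4, h5, h6]
  ring

omit [Fintype J] [DecidableEq J] in
theorem exists_avoid_sq (hq : 7 ≤ Fintype.card F) (s : Finset F) (hs : s.card ≤ 4) (v : F) :
    ∃ u : F, u ∉ s ∧ u * u ≠ v := by
  classical
  obtain ⟨r, hr⟩ : ∃ r : F, ∀ u, u * u = v → u = r ∨ u = -r := by
    by_cases hex : ∃ r : F, r * r = v
    · obtain ⟨r, hr⟩ := hex
      exact ⟨r, fun u hu => mul_self_eq_mul_self_iff.1 (hu.trans hr.symm)⟩
    · exact ⟨0, fun u hu => absurd ⟨u, hu⟩ hex⟩
  obtain ⟨u, hu⟩ := exists_avoid (s := s ∪ {r, -r}) (by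
    refine lt_of_le_of_lt (Finset.card_union_le _ _) ?_
    have := Finset.card_le_two (a := r) (b := -r)
    omega)
  simp only [Finset.mem_union, Finset.mem_insert, Finset.mem_singleton, not_or] at hu
  exact ⟨u, hu.1, fun e => by rcases hr u e with h | h <;> [exact hu.2.1 h; exact hu.2.2 h]⟩

include hJ hq hM hMS hcon in
/-- The second conjugate. -/
theorem second (h : Rk1 (scal M) w χ) (hχ : χ ≠ 0) {i l j o : J} (hil : i ≠ l) (hij : i ≠ j)
    (hio : i ≠ o) (hlj : l ≠ j) (hlo : l ≠ o) (hjo : j ≠ o) {c c' : F} (hi : w i * χ i = c)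
    (hl : w l * χ l = c) (hj : w j * χ j = c) (ho : w o * χ o = c') (hc : c ≠ 0) (u : Fˣ) (hu1 : (u : F) ≠ 1)
    (S₁ S₂ : F) (h₁ : S₁ = c + c + c * (u : F)⁻¹ + c' * (u : F)) (h₂ : S₂ = c + c + c * (u : F) + c' * (u : F)⁻¹) :
    (S₁ = -1 ∧ S₂ = 1 + χ ⬝ᵥ w) ∨ (S₁ * u = -1 ∧ S₂ = (1 + χ ⬝ᵥ w) * u) ∨
      (1 + χ ⬝ᵥ w) * u * S₁ + S₂ = 0 := by
  have hμ := h.one_add_ne
  have hu0 := u.ne_zero
  set δ : J → Fˣ := Function.update (Function.update (fun _ => (1 : Fˣ)) j u) o u⁻¹ with hδ
  have hD : monoGL (1 : Equiv.Perm J) δ ∈ scal M := le_scal (exists_diag_pair hM j o hjo u)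
  have δi : δ i = 1 := by simp [hδ, hij, hio]
  have δl : δ l = 1 := by simp [hδ, hlj, hlo]
  have δj : δ j = u := by simp [hδ, hjo]
  have δo : δ o = u⁻¹ := by simp [hδ]
  have ht := h.conj hD
  set wt := ((monoGL (1 : Equiv.Perm J) δ : GL J F) : Matrix J J F) *ᵥ w with hwt
  set χt := χ ᵥ* (((monoGL (1 : Equiv.Perm J) δ)⁻¹ : GL J F) : Matrix J J F) with hχt
  have ewt : ∀ a, wt a = (δ a : F) * w a := fun a => by rw [hwt, monoGL_mulVec, one_perm_symm_apply]
  have eχt : ∀ a, χt a = χ a * ((δ a : F))⁻¹ := fun a => by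
    rw [hχt, monoGL_inv, monoGL_vecMul]
    simp
  have est : χt ⬝ᵥ wt = χ ⬝ᵥ w := by rw [hwt, hχt, ← dotProduct_mulVec, gl_inv_mulVec_mulVec]
  have e₁ : χt ⬝ᵥ w = S₁ := by
    rw [h₁, dotProduct, sum_four hJ hil hij hio hlj hlo hjo, eχt, eχt, eχt, eχt, δi, δl, δj, δo]
    simp only [Units.val_one, inv_one, mul_one, Units.val_inv_eq_inv_val, inv_inv]
    linear_combination hi + hl + (u : F)⁻¹ * hj + (u : F) * ho
  have e₂ : χ ⬝ᵥ wt = S₂ := by
    rw [h₂, dotProduct, sum_four hJ hil hij hio hlj hlo hjo, ewt, ewt, ewt, ewt, δi, δl, δj, δo]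
    simp only [Units.val_one, one_mul, Units.val_inv_eq_inv_val]
    linear_combination hi + hl + (u : F) * hj + (u : F)⁻¹ * ho
  obtain ⟨Nt, hNtK, hNt⟩ := ht
  have h' := h.conj hNtK
  set w' := (Nt : Matrix J J F) *ᵥ w with hw'
  set χ' := χ ᵥ* ((Nt⁻¹ : GL J F) : Matrix J J F) with hχ'
  have ew' : ∀ a, w' a = w a * (1 + S₁ * (δ a : F)) := fun a => by
    rw [hw', hNt, e₁, Pi.add_apply, Pi.smul_apply, ewt, smul_eq_mul]; ring
  have hχeq : χ' = χ - (S₂ / (1 + χ ⬝ᵥ w)) • χt := by
    refine dotProduct_eq _ _ fun y => ?_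
    obtain ⟨x, rfl⟩ : ∃ x, y = (Nt : Matrix J J F) *ᵥ x := ⟨_, (gl_mulVec_inv_mulVec Nt y).symm⟩
    rw [hχ', ← dotProduct_mulVec, gl_inv_mulVec_mulVec, sub_dotProduct, smul_dotProduct, hNt, dotProduct_add,
      dotProduct_add, dotProduct_smul, dotProduct_smul, e₂, est]
    simp only [smul_eq_mul]
    field_simp
    ring
  have eχ' : ∀ a, χ' a = χ a * (1 - S₂ / (1 + χ ⬝ᵥ w) * ((δ a : F))⁻¹) := fun a => by
    rw [hχeq, Pi.sub_apply, Pi.smul_apply, eχt, smul_eq_mul]; ring
  have hw0 : w ≠ 0 := fun e => hc (by rw [← hi, e]; simp)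
  have hw'0 : w' ≠ 0 := gl_mulVec_ne_zero Nt hw0
  have hχ'0 : χ' ≠ 0 := by
    intro e
    refine hχ (dotProduct_eq _ _ fun x => ?_)
    have : χ' ⬝ᵥ ((Nt : Matrix J J F) *ᵥ x) = χ ⬝ᵥ x := by
      rw [hχ', ← dotProduct_mulVec, gl_inv_mulVec_mulVec]
    rw [← this, e, zero_dotProduct, zero_dotProduct]
  have hiff : ∀ a, w a * χ a = c →
      (1 + S₁ * (δ a : F) = 0 ↔ S₂ = (1 + χ ⬝ᵥ w) * (δ a : F)) := by
    intro a ha
    have hwa : w a ≠ 0 := fun e => hc (by rw [← ha, e, zero_mul])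
    have hχa : χ a ≠ 0 := fun e => hc (by rw [← ha, e, mul_zero])
    have e : (1 : F) - S₂ / (1 + χ ⬝ᵥ w) * ((δ a : F))⁻¹ = 0 ↔ S₂ = (1 + χ ⬝ᵥ w) * (δ a : F) := by
      rw [sub_eq_zero, eq_comm, ← div_eq_mul_inv, div_div, div_eq_one_iff_eq (mul_ne_zero hμ (δ a).ne_zero)]
    constructor
    · intro h0
      refine e.1 ((mul_eq_zero.1 ?_).resolve_left hχa)
      rw [← eχ']
      exact supp_right hJ hq hM hMS hcon h' hw'0 (by rw [ew', h0, mul_zero])
    · intro h0
      refine (mul_eq_zero.1 ?_).resolve_left hwa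
      rw [← ew']
      exact supp_left hJ hq hM hMS hcon h' hχ'0 (by rw [eχ', e.2 h0, mul_zero])
  by_cases z1 : 1 + S₁ = 0
  · left
    have := (hiff i hi).1 (by rw [δi, Units.val_one, mul_one]; exact z1)
    rw [δi, Units.val_one, mul_one] at this
    exact ⟨by linear_combination z1, this⟩
  by_cases z2 : 1 + S₁ * u = 0
  · right; left
    have := (hiff j hj).1 (by rw [δj]; exact z2)
    rw [δj] at this
    exact ⟨by linear_combination z2, this⟩
  right; right
  have hwi : w i ≠ 0 := fun e => hc (by rw [← hi, e, zero_mul])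
  have hwl : w l ≠ 0 := fun e => hc (by rw [← hl, e, zero_mul])
  have hwj : w j ≠ 0 := fun e => hc (by rw [← hj, e, zero_mul])
  have heq := uniform hJ hq hM hMS hcon h' (i := i) (j := j) (k := l)
    (by rw [ew', δi, Units.val_one, mul_one]; exact mul_ne_zero hwi z1)
    (by rw [ew', δj]; exact mul_ne_zero hwj z2)
    (by rw [ew', δl, Units.val_one, mul_one]; exact mul_ne_zero hwl z1) hij (Ne.symm hil) hlj
  rw [ew', ew', eχ', eχ', δi, δj, Units.val_one, inv_one, mul_one, mul_one,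
    mul_mul_mul_comm, hi, mul_mul_mul_comm, hj] at heq
  have heq' := mul_left_cancel₀ hc heq
  field_simp at heq'
  refine (mul_eq_zero.1 (show (1 - (u : F)) * ((1 + χ ⬝ᵥ w) * u * S₁ + S₂) = 0 from ?_)).resolve_left
    (sub_ne_zero.2 (Ne.symm hu1))
  linear_combination heq'

include hJ hq hM hMS hcon in
/-- No pseudo-reflection has a centre with more than two non-zero coordinates. -/
theorem false_of_three (h : Rk1 (scal M) w χ) (hs : χ ⬝ᵥ w ≠ 0) {i l j : J} (hi : w i ≠ 0) (hl : w l ≠ 0)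
    (hj : w j ≠ 0) (hil : i ≠ l) (hij : i ≠ j) (hlj : l ≠ j) : False := by
  classical
  obtain ⟨o, hoi, hol, hoj⟩ := exists_fourth (show 4 ≤ Fintype.card J by omega) i l j
  have hχ : χ ≠ 0 := fun e => hs (by rw [e, zero_dotProduct])
  set c := w i * χ i with hc
  have hl' : w l * χ l = c := (uniform hJ hq hM hMS hcon h hi hl hj hil (Ne.symm hij) (Ne.symm hlj)).symm
  have hj' : w j * χ j = c := (uniform hJ hq hM hMS hcon h hi hj hl hij (Ne.symm hil) hlj).symm
  have hc0 : c ≠ 0 := mul_ne_zero hi fun e => hi (supp_left hJ hq hM hMS hcon h hχ e)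
  set μ := 1 + χ ⬝ᵥ w with hμdef
  have hμ : μ ≠ 0 := h.one_add_ne
  have hsum : μ = 1 + (c + c + c + w o * χ o) := by
    rw [hμdef, dotProduct, sum_four hJ hil hij (Ne.symm hoi) hlj (Ne.symm hol) (Ne.symm hoj)]
    linear_combination hl' + hj'
  by_cases hwo : w o = 0
  · rw [hwo, zero_mul, add_zero] at hsum
    obtain ⟨u, hu⟩ := exists_avoid (s := ({0, 1, μ / c - 2, (-1 / c - 1) / 2, 2 * c / (μ - c),
      -(μ + 2) / (2 * μ + 1)} : Finset F)) (Finset.card_le_six.trans_lt hq)
    simp only [Finset.mem_insert, Finset.mem_singleton, not_or] at hu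
    obtain ⟨hu0, hu1, ha, hb, hb', hcc⟩ := hu
    rcases second hJ hq hM hMS hcon h hχ hil hij (Ne.symm hoi) hlj (Ne.symm hol) (Ne.symm hoj) hc.symm hl' hj'
        (show w o * χ o = 0 by rw [hwo, zero_mul]) hc0 (Units.mk0 u hu0) hu1 _ _ rfl rfl with
      ⟨-, e⟩ | ⟨e, e'⟩ | e
    · rw [Units.val_mk0] at e
      exact ha (by field_simp; linear_combination e)
    · rw [Units.val_mk0] at e e'
      field_simp at e
      by_cases h2 : (2 : F) = 0
      · have hμc : μ - c ≠ 0 := fun e0 =>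
          one_ne_zero (show (1 : F) = 0 by linear_combination e0 - hsum - c * h2)
        exact hb' (by field_simp; linear_combination -e')
      · exact hb (by field_simp; linear_combination e)
    · rw [Units.val_mk0] at e
      field_simp at e
      have e' : μ * (2 * u + 1) + (2 + u) = 0 := by
        refine (mul_eq_zero.1 (show c * u * (μ * (2 * u + 1) + (2 + u)) = 0 from ?_)).resolve_left
          (mul_ne_zero hc0 hu0)
        linear_combination e
      by_cases hm : 2 * μ + 1 = 0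
      · have h3 : (3 : F) = 0 := by linear_combination (2 : F) * e' - (2 * u + 1) * hm
        exact hs (by linear_combination hsum + c * h3)
      · exact hcc (by rw [eq_div_iff hm]; linear_combination e')
  · have ho' : w o * χ o = c :=
      (uniform hJ hq hM hMS hcon h hi hwo hl (Ne.symm hoi) (Ne.symm hil) (Ne.symm hol)).symm
    rw [ho'] at hsum
    have h4 : (4 : F) * c ≠ 0 := fun e => hs (by linear_combination hsum + e)
    have h2 : (2 : F) ≠ 0 := fun e => h4 (by linear_combination 2 * c * e)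
    obtain ⟨u, hu, husq⟩ := exists_avoid_sq hq ({0, 1, -1, -1 / μ} : Finset F) Finset.card_le_four
      (if μ = -1 then -1 else -1 / μ)
    simp only [Finset.mem_insert, Finset.mem_singleton, not_or] at hu
    obtain ⟨hu0, hu1, hum, huμ⟩ := hu
    rcases second hJ hq hM hMS hcon h hχ hil hij (Ne.symm hoi) hlj (Ne.symm hol) (Ne.symm hoj) hc.symm hl' hj'
        ho' hc0 (Units.mk0 u hu0) hu1 _ _ rfl rfl with
      ⟨e, e'⟩ | ⟨e, e'⟩ | e
    · rw [Units.val_mk0] at e e'
      have hμ1 : μ = -1 := by linear_combination e - e'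
      rw [if_pos hμ1] at husq
      field_simp at e
      apply husq
      refine mul_left_cancel₀ hc0 ?_
      have h2c : 2 * c = -1 := mul_left_cancel₀ h2 (by linear_combination -hsum + hμ1)
      linear_combination e - u * h2c
    · rw [Units.val_mk0] at e e'
      have hmu : μ * u * u = -1 := by linear_combination e - u * e'
      split_ifs at husq with hμ1
      · rw [hμ1] at hmu
        have : (u - 1) * (u + 1) = 0 := by linear_combination -hmu
        rcases mul_eq_zero.1 this with h | h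
        · exact hu1 (by linear_combination h)
        · exact hum (by linear_combination h)
      · exact husq (by field_simp; linear_combination hmu)
    · rw [Units.val_mk0] at e
      field_simp at e
      have : c * ((u + 1) * (u + 1)) * (μ * u + 1) = 0 := by linear_combination e
      rcases mul_eq_zero.1 this with h | h
      · exact hum (by linear_combination mul_self_eq_zero.1 ((mul_eq_zero.1 h).resolve_left hc0))
      · exact huμ (by field_simp; linear_combination h)

include hJ hq hM hMS hcon in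
theorem column_small {g : GL J F} (hg : g ∈ M) (k : J) {i l j : J} (hil : i ≠ l) (hij : i ≠ j) (hlj : l ≠ j)
    (hi : ((g : Matrix J J F) *ᵥ Pi.single k 1) i ≠ 0) (hl : ((g : Matrix J J F) *ᵥ Pi.single k 1) l ≠ 0)
    (hj : ((g : Matrix J J F) *ᵥ Pi.single k 1) j ≠ 0) : False := by
  obtain ⟨μ, hμ, hμK⟩ := exists_dia hJ hq hM
  have h0 : Rk1 (scal M) (Pi.single k 1) (Pi.single k ((μ : F) - 1)) := by
    refine ⟨_, hμK k, fun x => ?_⟩
    rw [dia_mulVec, single_dotProduct, ← Pi.single_smul, smul_eq_mul, mul_one]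
  refine false_of_three hJ hq hM hMS hcon (h0.conj (le_scal hg)) ?_ hi hl hj hil hij hlj
  rw [← dotProduct_mulVec, gl_inv_mulVec_mulVec]
  simp [sub_ne_zero, hμ]

end Four

variable {J : Type} [Fintype J] [DecidableEq J] {F : Type*} [Field F] [Fintype F]

/-- The monomial matrices of determinant one are maximal in degree four. -/
theorem specialLinear_le_of_monoSL_four (hJ : Fintype.card J = 4) (hq : 7 ≤ Fintype.card F)
    {M : Subgroup (GL J F)} (hM : MonoSL M) (hMS : M ≤ Cfsg.Geo.specialLinear J F) {g : GL J F}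
    (hg : g ∈ M) (hgm : ¬ IsMono g) : Cfsg.Geo.specialLinear J F ≤ M := by
  classical
  by_contra hcon
  have hsmall : ∀ y ∈ M, ∀ (k i l j : J), i ≠ l → i ≠ j → l ≠ j →
      ((y : GL J F) : Matrix J J F) i k ≠ 0 → (y : Matrix J J F) l k ≠ 0 → (y : Matrix J J F) j k ≠ 0 → False :=
    fun y hy k i l j h1 h2 h3 a b c => Four.column_small hJ hq hM hMS hcon hy k h1 h2 h3
      (by simpa using a) (by simpa using b) (by simpa using c)
  obtain ⟨j, p, q, hpq, hp, hq'⟩ := exists_two_of_not_isMono hgm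
  rw [← entry_eq] at hp hq'
  set G := (g : Matrix J J F) with hG
  have hsupp : ∀ a, a ≠ p → a ≠ q → G a j = 0 := fun a hap haq => by
    by_contra ha
    exact hsmall g hg j p q a hpq (Ne.symm hap) (Ne.symm haq) hp hq' ha
  obtain ⟨o, hop, hoq⟩ := exists_third (show 3 ≤ Fintype.card J by omega) p q
  obtain ⟨k, hk⟩ : ∃ k, G o k ≠ 0 := by
    by_contra! hall
    have h1 : (((g : GL J F) : Matrix J J F) * ((g⁻¹ : GL J F) : Matrix J J F)) o o = 1 := by
      rw [← Units.val_mul, mul_inv_cancel, Units.val_one, one_apply_eq]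
    rw [mul_apply, Finset.sum_eq_zero fun a _ => by rw [← hG, hall, zero_mul]] at h1
    exact zero_ne_one h1
  have hjk : j ≠ k := fun e => hk (e ▸ hsupp o hop hoq)
  set π := Equiv.swap (Equiv.swap p j q) k * Equiv.swap p j with hπ
  have hπp : π p = j := by
    simp only [hπ, Equiv.Perm.mul_apply, Equiv.swap_apply_left]
    refine Equiv.swap_apply_of_ne_of_ne (fun e => ?_) hjk
    exact hpq ((Equiv.swap p j).injective (by rw [Equiv.swap_apply_left]; exact e))
  have hπq : π q = k := by simp [hπ]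
  obtain ⟨l, hl⟩ := exists_avoid (s := ({0, -(G p j * G p j) / (G q j * G p k), -(G p j * G q j) / (G q j * G q k)} :
    Finset F)) (Finset.card_le_three.trans_lt (by omega))
  simp only [Finset.mem_insert, Finset.mem_singleton, not_or] at hl
  obtain ⟨hl0, hlp, hlq⟩ := hl
  obtain ⟨x, hx⟩ := exists_monoGL_det_one hM π (Function.update (fun _ => (1 : Fˣ)) q (Units.mk0 l hl0)) o
  set m := monoGL π (Function.update (Function.update (fun _ => (1 : Fˣ)) q (Units.mk0 l hl0)) o x) with hm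
  have hcol : ∀ a, ((g * m * g : GL J F) : Matrix J J F) a j = G p j * G a j + G q j * l * G a k := by
    intro a
    rw [entry_eq ((g * m * g : GL J F) : Matrix J J F), gl_mul_mulVec, gl_mul_mulVec]
    have e : G *ᵥ Pi.single j 1 = Pi.single p (G p j) + Pi.single q (G q j) := by
      funext b
      rw [← entry_eq]
      rcases eq_or_ne b p with rfl | hbp
      · simp [hpq]
      rcases eq_or_ne b q with rfl | hbq
      · simp [hbp]
      · simp [hsupp b hbp hbq, hbp, hbq]
    rw [← hG, e, mulVec_add, hm, monoGL_mulVec_single, monoGL_mulVec_single, hπp, hπq, mulVec_add, Pi.add_apply]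
    simp [Ne.symm hop, Ne.symm hoq, hpq]
    ring
  refine hsmall _ (M.mul_mem (M.mul_mem hg hx) hg) j p q o hpq (Ne.symm hop) (Ne.symm hoq) ?_ ?_ ?_
  · rw [hcol]
    intro e
    rcases eq_or_ne (G p k) 0 with h0 | h0
    · rw [h0, mul_zero, add_zero] at e
      exact mul_ne_zero hp hp e
    · exact hlp (by rw [eq_div_iff (mul_ne_zero hq' h0)]; linear_combination e)
  · rw [hcol]
    intro e
    rcases eq_or_ne (G q k) 0 with h0 | h0
    · rw [h0, mul_zero, add_zero] at e
      exact mul_ne_zero hp hq' e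
    · exact hlq (by rw [eq_div_iff (mul_ne_zero hq' h0)]; linear_combination e)
  · rw [hcol, hsupp o hop hoq, mul_zero, zero_add]
    exact mul_ne_zero (mul_ne_zero hq' hl0) hk

end CfsgLib.GeomClasses.DecompMax
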