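import Cfsg.Agent.Lib.GeomClasses.DecompMax.MonomialMax
import Cfsg.Agent.Lib.GeomClasses.DecompMax.MonomialFour
import Cfsg.Agent.Lib.GeomClasses.DecompMax.BlockCase

/-! The stabiliser of a decomposition in the special linear group is maximal. -/

set_option autoImplicit false
set_option linter.unusedSimpArgs false
set_option linter.unusedSectionVars false

namespace CfsgLib.GeomClasses.DecompMax

open Matrix Decomp
open scoped MatrixGroups

variable {F : Type*} [Field F]

theorem decomp_dim {n t m : ℕ} {D : Fin t → Submodule F (Fin n → F)}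
    (hD : Cfsg.Geo.IsMDecomposition m D) : n = t * m := by
  have h := (LinearEquiv.ofBijective (DirectSum.coeLinearMap D) (Decomp.isInternal hD)).finrank_eq
  rw [Module.finrank_directSum, Module.finrank_fin_fun, Finset.sum_congr rfl (fun i _ => hD.finrank_eq i),
    Finset.sum_const, Finset.card_univ, Fintype.card_fin, smul_eq_mul] at h
  exact h.symm

theorem decompStab_lt {ι : Type} [Fintype ι] [DecidableEq ι] {t m : ℕ}
    {D : Fin t → Submodule F (ι → F)} (hD : Cfsg.Geo.IsMDecomposition m D) :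
    Cfsg.Geo.decompositionStabilizer D ⊓ Cfsg.Geo.specialLinear ι F < Cfsg.Geo.specialLinear ι F := by
  refine lt_of_le_of_ne inf_le_right fun heq => ?_
  set i : Fin t := ⟨0, by have := hD.two_le; omega⟩
  set j : Fin t := ⟨1, by have := hD.two_le; omega⟩
  have hji : j ≠ i := by simp [i, j]
  obtain ⟨x, hx, hx0⟩ := exists_ne_zero hD i
  obtain ⟨u, hu, hu0⟩ := exists_ne_zero hD j
  obtain ⟨χ, hχ, hχx⟩ := exists_dual_one hD hx hx0
  have h0 : χ ⬝ᵥ u = 0 := hχ.eq_zero_of_mem hji hu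
  have hmemH : tv u χ ∈ Cfsg.Geo.decompositionStabilizer D ⊓ Cfsg.Geo.specialLinear ι F := by
    rw [heq]; exact tv_mem_specialLinear u χ
  obtain ⟨σ, hσ⟩ := hmemH.1
  have hmem : x + u ∈ D (σ i) := by
    rw [← hσ i]
    exact ⟨x, hx, by rw [Matrix.toLin'_apply, tv_mulVec h0, hχx, one_smul]⟩
  have hi : comp hD i (x + u) = x := by
    rw [map_add, comp_of_mem hD hx, comp_of_mem_ne hD hji hu, add_zero]
  have hj : comp hD j (x + u) = u := by
    rw [map_add, comp_of_mem hD hu, comp_of_mem_ne hD hji.symm hx, zero_add]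
  rcases eq_or_ne (σ i) i with h | h
  · rw [comp_of_mem_ne hD (i := j) (j := σ i) (by rw [h]; exact hji.symm) hmem] at hj
    exact hu0 hj.symm
  · rw [comp_of_mem_ne hD h hmem] at hi
    exact hx0 hi.symm

/-- The case of one-dimensional members, given the maximality of the monomial matrices. -/
theorem specialLinear_le_of_lines_of [Fintype F] {n : ℕ}
    (hmax : ∀ {M : Subgroup (GL (Fin n) F)}, MonoSL M → M ≤ Cfsg.Geo.specialLinear (Fin n) F →
      ∀ {g : GL (Fin n) F}, g ∈ M → ¬ IsMono g → Cfsg.Geo.specialLinear (Fin n) F ≤ M)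
    {D : Fin n → Submodule F (Fin n → F)} (hD : Cfsg.Geo.IsMDecomposition 1 D)
    {M : Subgroup (GL (Fin n) F)}
    (hH : Cfsg.Geo.decompositionStabilizer D ⊓ Cfsg.Geo.specialLinear (Fin n) F ≤ M)
    (hMS : M ≤ Cfsg.Geo.specialLinear (Fin n) F) {g : GL (Fin n) F} (hg : g ∈ M)
    (hgs : g ∉ Cfsg.Geo.decompositionStabilizer D) : Cfsg.Geo.specialLinear (Fin n) F ≤ M := by
  obtain ⟨e, c, he, hce, hce0, hcomp, hsum⟩ := exists_coords hD
  let A : Matrix (Fin n) (Fin n) F := Matrix.of fun r i => e i 0 r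
  let B : Matrix (Fin n) (Fin n) F := Matrix.of fun i r => c i 0 r
  have hBA : B * A = 1 := by
    ext i j
    show c i 0 ⬝ᵥ e j 0 = _
    rcases eq_or_ne i j with rfl | h
    · rw [hce, Matrix.one_apply_eq]
    · rw [hce0 _ _ _ _ (by simp [h]), Matrix.one_apply_ne h]
  let P : GL (Fin n) F := ⟨A, B, mul_eq_one_comm.1 hBA, hBA⟩
  have hP : ∀ i, (P : Matrix (Fin n) (Fin n) F) *ᵥ Pi.single i 1 = e i 0 := fun i => by
    funext r
    show (A *ᵥ Pi.single i 1) r = _
    simp [A]
  have hD1 : ∀ i, ∀ x ∈ D i, ∃ a : F, x = (P : Matrix (Fin n) (Fin n) F) *ᵥ Pi.single i a := by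
    intro i x hx
    refine ⟨c i 0 ⬝ᵥ x, ?_⟩
    rw [show (Pi.single i (c i 0 ⬝ᵥ x) : Fin n → F) = (c i 0 ⬝ᵥ x) • Pi.single i 1 by
      rw [← Pi.single_smul]; simp, mulVec_smul, hP]
    conv_lhs => rw [← comp_of_mem hD hx, hcomp, Fin.sum_univ_one]
  have hstab : ∀ π d, P * monoGL π d * P⁻¹ ∈ Cfsg.Geo.decompositionStabilizer D := by
    intro π d
    refine mem_stabilizer_of_image hD fun i => ⟨π i, fun x hx => ?_⟩
    obtain ⟨a, rfl⟩ := hD1 i x hx
    rw [gl_mul_mulVec, gl_mul_mulVec, gl_inv_mulVec_mulVec, monoGL_mulVec_single,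
      show (Pi.single (π i) ((d i : F) * a) : Fin n → F) = ((d i : F) * a) • Pi.single (π i) 1 by
        rw [← Pi.single_smul]; simp, mulVec_smul, hP]
    exact (D (π i)).smul_mem _ (he _ _)
  have hdet : ∀ x : GL (Fin n) F, ((P * x * P⁻¹ : GL (Fin n) F) : Matrix (Fin n) (Fin n) F).det =
      (x : Matrix (Fin n) (Fin n) F).det := fun x => by
    rw [Units.val_mul, Units.val_mul, Matrix.det_units_conj]
  let M' : Subgroup (GL (Fin n) F) := M.comap (MulAut.conj P).toMonoidHom
  have hmem : ∀ x, x ∈ M' ↔ P * x * P⁻¹ ∈ M := fun x => Iff.rfl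
  have hMono : MonoSL M' := fun π d h =>
    (hmem _).2 (hH ⟨hstab π d, mem_specialLinear.2 (by rw [hdet]; exact h)⟩)
  have hM'S : M' ≤ Cfsg.Geo.specialLinear (Fin n) F := fun x hx =>
    mem_specialLinear.2 (hdet x ▸ mem_specialLinear.1 (hMS ((hmem x).1 hx)))
  have hg' : P⁻¹ * g * P ∈ M' := (hmem _).2 (by
    rwa [show P * (P⁻¹ * g * P) * P⁻¹ = g by group])
  have hgn : ¬ IsMono (P⁻¹ * g * P) := by
    rintro ⟨π, d, h⟩
    apply hgs
    rw [show g = P * (P⁻¹ * g * P) * P⁻¹ by group, h]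
    exact hstab π d
  have hle := hmax hMono hM'S hg' hgn
  intro y hy
  have hy' : P⁻¹ * y * P ∈ Cfsg.Geo.specialLinear (Fin n) F := by
    rw [mem_specialLinear, ← hdet, show P * (P⁻¹ * y * P) * P⁻¹ = y by group]
    exact mem_specialLinear.1 hy
  have := (hmem _).1 (hle hy')
  rwa [show P * (P⁻¹ * y * P) * P⁻¹ = y by group] at this

/-- The case of one-dimensional members. -/
theorem specialLinear_le_of_lines [Fintype F] {n : ℕ} (hn : 6 ≤ n) (hq : 5 ≤ Fintype.card F)
    {D : Fin n → Submodule F (Fin n → F)} (hD : Cfsg.Geo.IsMDecomposition 1 D)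
    {M : Subgroup (GL (Fin n) F)}
    (hH : Cfsg.Geo.decompositionStabilizer D ⊓ Cfsg.Geo.specialLinear (Fin n) F ≤ M)
    (hMS : M ≤ Cfsg.Geo.specialLinear (Fin n) F) {g : GL (Fin n) F} (hg : g ∈ M)
    (hgs : g ∉ Cfsg.Geo.decompositionStabilizer D) : Cfsg.Geo.specialLinear (Fin n) F ≤ M :=
  specialLinear_le_of_lines_of (fun hM' hMS' => specialLinear_le_of_monoSL (by simpa using hn) hq hM' hMS')
    hD hH hMS hg hgs

/-- The stabiliser of four independent lines, at least seven scalars. -/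
theorem fourLines_isMaximal [Fintype F] (hq : 7 ≤ Fintype.card F)
    {D : Fin 4 → Submodule F (Fin 4 → F)} (hD : Cfsg.Geo.IsMDecomposition 1 D) :
    Cfsg.Geo.IsMaximalIn (Cfsg.Geo.specialLinear (Fin 4) F)
      (Cfsg.Geo.decompositionStabilizer D ⊓ Cfsg.Geo.specialLinear (Fin 4) F) := by
  refine ⟨decompStab_lt hD, fun M hHM hMS => ?_⟩
  by_cases hM : M ≤ Cfsg.Geo.decompositionStabilizer D
  · exact Or.inl (le_antisymm (le_inf hM hMS) hHM)
  obtain ⟨g, hg, hgs⟩ := SetLike.not_le_iff_exists.1 hM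
  exact Or.inr (le_antisymm hMS (specialLinear_le_of_lines_of
    (fun hM' hMS' => specialLinear_le_of_monoSL_four (Fintype.card_fin 4) hq hM' hMS') hD hHM hMS hg hgs))

/-- The stabiliser of two complementary planes, at least four scalars. -/
theorem twoPlanes_isMaximal [Fintype F] (hq : 4 ≤ Fintype.card F)
    {D : Fin 2 → Submodule F (Fin 4 → F)} (hD : Cfsg.Geo.IsMDecomposition 2 D) :
    Cfsg.Geo.IsMaximalIn (Cfsg.Geo.specialLinear (Fin 4) F)
      (Cfsg.Geo.decompositionStabilizer D ⊓ Cfsg.Geo.specialLinear (Fin 4) F) := by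
  refine ⟨decompStab_lt hD, fun M hHM hMS => ?_⟩
  by_cases hM : M ≤ Cfsg.Geo.decompositionStabilizer D
  · exact Or.inl (le_antisymm (le_inf hM hMS) hHM)
  obtain ⟨g, hg, hgs⟩ := SetLike.not_le_iff_exists.1 hM
  exact Or.inr (le_antisymm hMS
    (specialLinear_le_of_block hD le_rfl (Or.inr (Or.inr hq)) (fun _ => by omega) hHM hg hgs))

/-- The stabiliser of a decomposition is maximal in the special linear group. -/
theorem decompStab_isMaximal [Fintype F] {n : ℕ} (hn : 6 ≤ n) {t m : ℕ}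
    {D : Fin t → Submodule F (Fin n → F)} (hD : Cfsg.Geo.IsMDecomposition m D)
    (h1 : ¬ (m = 1 ∧ Fintype.card F ≤ 4)) (h2 : ¬ (m = 2 ∧ Fintype.card F = 2)) :
    Cfsg.Geo.IsMaximalIn (Cfsg.Geo.specialLinear (Fin n) F)
      (Cfsg.Geo.decompositionStabilizer D ⊓ Cfsg.Geo.specialLinear (Fin n) F) := by
  refine ⟨decompStab_lt hD, fun M hHM hMS => ?_⟩
  by_cases hM : M ≤ Cfsg.Geo.decompositionStabilizer D
  · exact Or.inl (le_antisymm (le_inf hM hMS) hHM)
  obtain ⟨g, hg, hgs⟩ := SetLike.not_le_iff_exists.1 hM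
  refine Or.inr (le_antisymm hMS ?_)
  have hn' := decomp_dim hD
  have hpos := hD.pos
  have hq : 1 < Fintype.card F := Fintype.one_lt_card
  rcases eq_or_ne m 1 with rfl | hm
  · have htn : t = n := by omega
    subst htn
    exact specialLinear_le_of_lines hn (by omega) hD hHM hMS hg hgs
  · refine specialLinear_le_of_block hD (by omega) ?_ (fun h => ?_) hHM hg hgs
    · by_contra hcon
      have : t * m ≤ 2 * 2 := Nat.mul_le_mul (by omega) (by omega)
      omega
    · omega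

end CfsgLib.GeomClasses.DecompMax
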