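import Cfsg.Agent.Lib.GeomClasses.Basic

/-! Monomial matrices, and generation of the special linear group by one root element and them. -/

set_option autoImplicit false
set_option linter.unusedSimpArgs false
set_option linter.unusedSectionVars false

namespace CfsgLib.GeomClasses.DecompMax

open Matrix
open scoped MatrixGroups

variable {J : Type} [Fintype J] [DecidableEq J] {F : Type*} [Field F]

/-- The monomial matrix `e_j ↦ d j • e (π j)`. -/
def monoMat (π : Equiv.Perm J) (d : J → Fˣ) : Matrix J J F :=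
  Matrix.of fun i j => if i = π j then (d j : F) else 0

theorem monoMat_mulVec (π : Equiv.Perm J) (d : J → Fˣ) (x : J → F) (i : J) :
    (monoMat π d *ᵥ x) i = (d (π.symm i) : F) * x (π.symm i) := by
  simp only [mulVec, dotProduct, monoMat, of_apply, ite_mul, zero_mul]
  rw [Finset.sum_eq_single (π.symm i)]
  · simp
  · intro j _ hj
    rw [if_neg]
    rintro rfl
    simp at hj
  · simp

theorem monoMat_mul (π π' : Equiv.Perm J) (d d' : J → Fˣ) :
    monoMat π d * monoMat π' d' = monoMat (π * π') (fun j => d (π' j) * d' j) := by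
  ext i j
  simp only [Matrix.mul_apply, monoMat, of_apply, Equiv.Perm.mul_apply]
  rw [Finset.sum_eq_single (π' j)]
  · split_ifs <;> simp_all
  · intro l _ hl; simp [hl]
  · simp

theorem monoMat_one : monoMat (1 : Equiv.Perm J) (fun _ => (1 : Fˣ)) = 1 := by
  ext i j
  rcases eq_or_ne i j with rfl | h <;> simp [monoMat, *]

/-- The monomial matrix as an element of the general linear group. -/
def monoGL (π : Equiv.Perm J) (d : J → Fˣ) : GL J F :=
  ⟨monoMat π d, monoMat π⁻¹ (fun j => (d (π.symm j))⁻¹), by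
    rw [monoMat_mul, mul_inv_cancel]
    refine Eq.trans (congrArg (monoMat 1) (funext fun j => ?_)) monoMat_one
    simp [Equiv.Perm.inv_def], by
    rw [monoMat_mul, inv_mul_cancel]
    refine Eq.trans (congrArg (monoMat 1) (funext fun j => ?_)) monoMat_one
    simp⟩

theorem monoGL_mulVec (π : Equiv.Perm J) (d : J → Fˣ) (x : J → F) (i : J) :
    ((monoGL π d : GL J F) : Matrix J J F).mulVec x i = (d (π.symm i) : F) * x (π.symm i) :=
  monoMat_mulVec π d x i

theorem monoGL_vecMul (π : Equiv.Perm J) (d : J → Fˣ) (x : J → F) (j : J) :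
    Matrix.vecMul x ((monoGL π d : GL J F) : Matrix J J F) j = x (π j) * (d j : F) := by
  show (x ᵥ* monoMat π d) j = _
  simp [vecMul, dotProduct, monoMat]

theorem monoGL_mulVec_single (π : Equiv.Perm J) (d : J → Fˣ) (j : J) (c : F) :
    ((monoGL π d : GL J F) : Matrix J J F) *ᵥ (Pi.single j c) = Pi.single (π j) ((d j : F) * c) := by
  funext i
  rw [monoGL_mulVec]
  rcases eq_or_ne i (π j) with rfl | h
  · simp
  · rw [Pi.single_eq_of_ne h, Pi.single_eq_of_ne]
    · simp
    · rintro rfl; simp at h

theorem monoGL_inv (π : Equiv.Perm J) (d : J → Fˣ) :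
    (monoGL π d)⁻¹ = monoGL π⁻¹ (fun j => (d (π.symm j))⁻¹) := Units.ext rfl

theorem monoGL_mul (π π' : Equiv.Perm J) (d d' : J → Fˣ) :
    monoGL π d * monoGL π' d' = monoGL (π * π') (fun j => d (π' j) * d' j) :=
  Units.ext (monoMat_mul π π' d d')

theorem monoGL_det (π : Equiv.Perm J) (d : J → Fˣ) :
    ((monoGL π d : GL J F) : Matrix J J F).det = ((Equiv.Perm.sign π : ℤ) : F) * ∏ j, (d j : F) := by
  have h : monoMat π d = π⁻¹.permMatrix F * Matrix.diagonal (fun j => (d j : F)) := by
    ext i j
    rw [Matrix.mul_diagonal]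
    simp only [monoMat, of_apply, Equiv.Perm.permMatrix, PEquiv.toMatrix_apply, Equiv.toPEquiv_apply,
      Option.mem_some_iff]
    rcases eq_or_ne i (π j) with rfl | h
    · simp
    · rw [if_neg h, if_neg, zero_mul]
      rintro rfl; simp at h
  show (monoMat π d).det = _
  rw [h, det_mul, det_permutation, det_diagonal, Equiv.Perm.sign_inv]

/-- A monomial element. -/
def IsMono (g : GL J F) : Prop := ∃ π d, g = monoGL π d

theorem IsMono.mul {g h : GL J F} (hg : IsMono g) (hh : IsMono h) : IsMono (g * h) := by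
  obtain ⟨π, d, rfl⟩ := hg
  obtain ⟨π', d', rfl⟩ := hh
  exact ⟨_, _, monoGL_mul π π' d d'⟩

theorem IsMono.inv {g : GL J F} (hg : IsMono g) : IsMono g⁻¹ := by
  obtain ⟨π, d, rfl⟩ := hg
  exact ⟨_, _, monoGL_inv π d⟩

theorem isMono_one : IsMono (1 : GL J F) := ⟨1, fun _ => 1, Units.ext monoMat_one.symm⟩

/-- An element mapping each coordinate line to a coordinate line is monomial. -/
theorem isMono_of_columns {g : GL J F}
    (h : ∀ j, ∃ i, ∀ k, k ≠ i → ((g : Matrix J J F) *ᵥ Pi.single j 1) k = 0) : IsMono g := by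
  choose s hs using h
  have hne : ∀ j, ((g : Matrix J J F) *ᵥ Pi.single j 1) (s j) ≠ 0 := by
    intro j h0
    refine gl_mulVec_ne_zero g (x := Pi.single j (1 : F)) (by simp) ?_
    funext k
    rcases eq_or_ne k (s j) with rfl | hk
    · exact h0
    · exact hs j k hk
  have hinj : Function.Injective s := by
    intro j j' hjj
    by_contra hne'
    have key : (g : Matrix J J F) *ᵥ Pi.single j (((g : Matrix J J F) *ᵥ Pi.single j' 1) (s j)) =
        (g : Matrix J J F) *ᵥ Pi.single j' (((g : Matrix J J F) *ᵥ Pi.single j 1) (s j)) := by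
      funext k
      have e : ∀ (l : J) (c : F), ((g : Matrix J J F) *ᵥ Pi.single l c) k =
          c * ((g : Matrix J J F) *ᵥ Pi.single l 1) k := fun l c => by
        rw [show (Pi.single l c : J → F) = c • Pi.single l 1 by rw [← Pi.single_smul]; simp, mulVec_smul]
        rfl
      rw [e j (((g : Matrix J J F) *ᵥ Pi.single j' 1) (s j)), e j' (((g : Matrix J J F) *ᵥ Pi.single j 1) (s j))]
      rcases eq_or_ne k (s j) with rfl | hk
      · ring
      · rw [hs j k hk, hs j' k (hjj ▸ hk), mul_zero, mul_zero]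
    have hk := congrFun (gl_mulVec_injective g key) j
    rw [Pi.single_eq_same, Pi.single_eq_of_ne hne'] at hk
    exact hne j' (hjj ▸ hk)
  refine ⟨Equiv.ofBijective s (Finite.injective_iff_bijective.1 hinj),
    fun j => Units.mk0 _ (hne j), gl_ext fun x => ?_⟩
  revert x
  suffices h : ∀ j, (g : Matrix J J F) *ᵥ Pi.single j 1 =
      ((monoGL (Equiv.ofBijective s (Finite.injective_iff_bijective.1 hinj))
        (fun j => Units.mk0 _ (hne j)) : GL J F) : Matrix J J F) *ᵥ Pi.single j 1 by
    intro x
    exact congrArg (fun A : Matrix J J F => A *ᵥ x) (Matrix.ext_of_mulVec_single h)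
  intro j
  rw [monoGL_mulVec_single]
  funext k
  rcases eq_or_ne k (s j) with rfl | hk
  · simp
  · rw [hs j k hk, Pi.single_eq_of_ne (by simpa using hk)]

theorem exists_two_of_not_isMono {g : GL J F} (hg : ¬ IsMono g) :
    ∃ j i k, i ≠ k ∧ ((g : Matrix J J F) *ᵥ Pi.single j 1) i ≠ 0 ∧
      ((g : Matrix J J F) *ᵥ Pi.single j 1) k ≠ 0 := by
  by_contra! hno
  refine hg (isMono_of_columns fun j => ?_)
  obtain ⟨i, hi⟩ := Function.ne_iff.1 (gl_mulVec_ne_zero g (x := Pi.single j (1 : F)) (by simp))
  exact ⟨i, fun k hk => hno j i k (Ne.symm hk) hi⟩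

/-- All monomial elements of determinant one. -/
def MonoSL (M : Subgroup (GL J F)) : Prop :=
  ∀ π d, ((monoGL π d : GL J F) : Matrix J J F).det = 1 → monoGL π d ∈ M

/-- A monomial element of determinant one with a prescribed permutation and prescribed scalars
outside one index. -/
theorem exists_monoGL_det_one {M : Subgroup (GL J F)} (hM : MonoSL M) (π : Equiv.Perm J)
    (d : J → Fˣ) (o : J) : ∃ x : Fˣ, monoGL π (Function.update d o x) ∈ M := by
  classical
  let P : Fˣ := ∏ j ∈ Finset.univ.erase o, d j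
  let s : Fˣ := Units.map (Int.castRingHom F).toMonoidHom (Equiv.Perm.sign π)
  refine ⟨(s * P)⁻¹, hM _ _ ?_⟩
  rw [monoGL_det, ← Finset.mul_prod_erase Finset.univ _ (Finset.mem_univ o), Function.update_self]
  have hP : ∏ j ∈ Finset.univ.erase o, ((Function.update d o (s * P)⁻¹ j : Fˣ) : F) = (P : F) := by
    rw [Units.coe_prod]
    exact Finset.prod_congr rfl fun j hj => by rw [Function.update_of_ne (Finset.ne_of_mem_erase hj)]
  rw [hP]
  have hs : ((Equiv.Perm.sign π : ℤ) : F) = (s : F) := rfl
  rw [hs, ← Units.val_mul, ← Units.val_mul, show s * ((s * P)⁻¹ * P) = 1 by rw [mul_left_comm, inv_mul_cancel], Units.val_one]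

theorem exists_third (hJ : 3 ≤ Fintype.card J) (a b : J) : ∃ o, o ≠ a ∧ o ≠ b := by
  by_contra! h
  have h1 : (Finset.univ : Finset J) ⊆ {a, b} := fun o _ => by
    rcases eq_or_ne o a with rfl | ho
    · simp
    · simp [h o ho]
  have := (Finset.card_le_card h1).trans Finset.card_le_two
  rw [Finset.card_univ] at this
  omega

theorem exists_fourth (hJ : 4 ≤ Fintype.card J) (a b c : J) : ∃ o, o ≠ a ∧ o ≠ b ∧ o ≠ c := by
  by_contra! h
  have h1 : (Finset.univ : Finset J) ⊆ {a, b, c} := fun o _ => by
    rcases eq_or_ne o a with rfl | ho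
    · simp
    rcases eq_or_ne o b with rfl | hb
    · simp
    simp [h o ho hb]
  have := (Finset.card_le_card h1).trans Finset.card_le_three
  rw [Finset.card_univ] at this
  omega

/-- One root element and the monomial elements of determinant one give the special linear group. -/
theorem specialLinear_le_of_root (hJ : 3 ≤ Fintype.card J) {M : Subgroup (GL J F)} (hM : MonoSL M)
    {k i : J} (hki : k ≠ i) {c : F} (hc : c ≠ 0) (hr : tv (Pi.single k c) (Pi.single i 1) ∈ M) :
    Cfsg.Geo.specialLinear J F ≤ M := by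
  classical
  have hroot : ∀ a b, a ≠ b → ∀ c' : F, tv (Pi.single a c') (Pi.single b 1) ∈ M := by
    intro a b hab c'
    rcases eq_or_ne c' 0 with rfl | hc'
    · simp [one_mem]
    let σ := Equiv.swap (Equiv.swap k a i) b * Equiv.swap k a
    have hσk : σ k = a := by
      simp only [σ, Equiv.Perm.mul_apply, Equiv.swap_apply_left]
      refine Equiv.swap_apply_of_ne_of_ne (fun h => ?_) hab
      exact hki ((Equiv.swap k a).injective (by rw [Equiv.swap_apply_left]; exact h))
    have hσi : σ i = b := by simp [σ]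
    obtain ⟨o, hok, hoi⟩ := exists_third hJ k i
    obtain ⟨x, hx⟩ := exists_monoGL_det_one hM σ
      (Function.update (fun _ => (1 : Fˣ)) k (Units.mk0 (c' / c) (div_ne_zero hc' hc))) o
    have h0 : (Pi.single i (1 : F) : J → F) ⬝ᵥ Pi.single k c = 0 := by simp [hki, hki.symm]
    have h := M.mul_mem (M.mul_mem hx hr) (M.inv_mem hx)
    rw [conj_tv _ h0] at h
    convert h using 2
    · rw [monoGL_mulVec_single, hσk, Function.update_of_ne (Ne.symm hok), Function.update_self]
      simp [hc]
    · funext j
      rw [monoGL_inv, monoGL_vecMul]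
      rcases eq_or_ne j b with rfl | hj
      · have : σ.symm j = i := by rw [← hσi, Equiv.symm_apply_apply]
        simp [Equiv.Perm.inv_def, this, Function.update_of_ne (Ne.symm hoi),
          Function.update_of_ne (Ne.symm hki)]
      · have : σ.symm j ≠ i := fun h => hj (by rw [← hσi, ← h, Equiv.apply_symm_apply])
        simp [Equiv.Perm.inv_def, Pi.single_eq_of_ne this, hj]
  refine specialLinear_le_of_fullAxes_eq_top ?_
  rw [eq_top_iff]
  intro φ _
  rw [pi_eq_sum_univ' φ]
  refine Submodule.sum_mem _ fun b _ => Submodule.smul_mem _ _ (mem_fullAxes.2 fun v hv => ?_)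
  have hvb : v b = 0 := by simpa using hv
  have key : ∀ s : Finset J, tv (∑ a ∈ s, Pi.single a (v a)) (Pi.single b 1) ∈ M ∧
      (Pi.single b (1 : F) : J → F) ⬝ᵥ (∑ a ∈ s, Pi.single a (v a)) = 0 := by
    intro s
    induction s using Finset.induction_on with
    | empty => simp [one_mem]
    | insert a s ha ih =>
      have h1 : (Pi.single b (1 : F) : J → F) ⬝ᵥ (Pi.single a (v a)) = 0 := by
        rcases eq_or_ne a b with rfl | hab
        · simp [hvb]
        · simp [Ne.symm hab]
      rw [Finset.sum_insert ha]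
      refine ⟨?_, by rw [dotProduct_add, h1, ih.2, add_zero]⟩
      rw [← tv_mul_tv_left h1 ih.2]
      refine M.mul_mem ?_ ih.1
      rcases eq_or_ne a b with rfl | hab
      · simp [hvb, one_mem]
      · exact hroot a b hab _
  have := (key Finset.univ).1
  rwa [Finset.univ_sum_single] at this

end CfsgLib.GeomClasses.DecompMax
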