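import Cfsg.Agent.Lib.GeomClasses.DecompMax.Roots

/-! Zero patterns of the non-monomial elements of a group in which every element fixing a coordinate
line is monomial. -/

set_option autoImplicit false
set_option linter.unusedSimpArgs false
set_option linter.unusedSectionVars false

namespace CfsgLib.GeomClasses.DecompMax

open Matrix
open scoped MatrixGroups

variable {J : Type} [Fintype J] [DecidableEq J] {F : Type*} [Field F] [Fintype F]

/-- Every element fixing a coordinate line is monomial. -/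
def NoLine (M : Subgroup (GL J F)) : Prop :=
  ∀ z ∈ M, ∀ p, (∀ i, i ≠ p → (z : Matrix J J F) i p = 0) → IsMono z

theorem entry_eq (A : Matrix J J F) (i j : J) : A i j = (A *ᵥ Pi.single j 1) i := by
  simp [mulVec, dotProduct_single]

theorem exists_row_ne (g : GL J F) (i : J) : ∃ q, (g : Matrix J J F) i q ≠ 0 := by
  by_contra! h
  have h1 : ((g * g⁻¹ : GL J F) : Matrix J J F) i i = 0 := by
    rw [Units.val_mul, Matrix.mul_apply]
    exact Finset.sum_eq_zero fun k _ => by rw [h k, zero_mul]
  simp at h1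

theorem monoGL_mul_apply (π : Equiv.Perm J) (d : J → Fˣ) (g : GL J F) (i j : J) :
    ((monoGL π d * g : GL J F) : Matrix J J F) i j =
      (d (π.symm i) : F) * (g : Matrix J J F) (π.symm i) j := by
  rw [entry_eq ((monoGL π d * g : GL J F) : Matrix J J F) i j, gl_mul_mulVec, monoGL_mulVec, ← entry_eq]

theorem diag_conj_col {g x : GL J F} {d : J → Fˣ} (hx : x = g⁻¹ * monoGL 1 d * g) (j k : J) :
    (d k : F) * (g : Matrix J J F) k j = ((g * x : GL J F) : Matrix J J F) k j := by
  rw [hx, show g * (g⁻¹ * monoGL (1 : Equiv.Perm J) d * g) = monoGL 1 d * g by group, monoGL_mul_apply,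
    one_perm_symm_apply]

theorem mul_monoGL_apply (g : GL J F) (π : Equiv.Perm J) (d : J → Fˣ) (k j : J) :
    ((g * monoGL π d : GL J F) : Matrix J J F) k j = (d j : F) * (g : Matrix J J F) k (π j) := by
  rw [entry_eq ((g * monoGL π d : GL J F) : Matrix J J F) k j, gl_mul_mulVec, monoGL_mulVec_single, mul_one,
    show (Pi.single (π j) (d j : F) : J → F) = (d j : F) • Pi.single (π j) 1 by rw [← Pi.single_smul]; simp,
    mulVec_smul, Pi.smul_apply, smul_eq_mul, ← entry_eq]

theorem exists_fifth (hJ : 5 ≤ Fintype.card J) (a b c d : J) :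
    ∃ o, o ≠ a ∧ o ≠ b ∧ o ≠ c ∧ o ≠ d := by
  by_contra! h
  have h1 : (Finset.univ : Finset J) ⊆ {a, b, c, d} := fun o _ => by
    simp only [Finset.mem_insert, Finset.mem_singleton]
    by_contra! hne
    exact hne.2.2.2 (h o hne.1 hne.2.1 hne.2.2.1)
  have := (Finset.card_le_card h1).trans Finset.card_le_four
  rw [Finset.card_univ] at this
  omega

/-- A non-monomial element has no column with a single non-zero entry. -/
theorem NoLine.two_le_col {M : Subgroup (GL J F)} (hM : MonoSL M) (hN : NoLine M) {g : GL J F}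
    (hg : g ∈ M) (hgm : ¬ IsMono g) (q k : J) : ∃ i, i ≠ k ∧ (g : Matrix J J F) i q ≠ 0 := by
  by_contra! h
  obtain ⟨x, hx⟩ := exists_monoGL_det_one hM (Equiv.swap q k) (fun _ => (1 : Fˣ)) q
  set m := monoGL (Equiv.swap q k) (Function.update (fun _ => (1 : Fˣ)) q x) with hm
  have hz : IsMono (m * g) := by
    refine hN _ (M.mul_mem hx hg) q fun i hi => ?_
    rw [hm, monoGL_mul_apply, h _ ?_, mul_zero]
    intro e
    apply hi
    have := congrArg (Equiv.swap q k) e
    rwa [Equiv.apply_symm_apply, Equiv.swap_apply_right] at this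
  apply hgm
  have := IsMono.mul (IsMono.inv ⟨_, _, hm⟩) hz
  rwa [inv_mul_cancel_left] at this

theorem NoLine.no_two_zero_core (hq : 5 ≤ Fintype.card F) {M : Subgroup (GL J F)} (hM : MonoSL M)
    (hN : NoLine M) {g : GL J F} (hg : g ∈ M) {j q i l y : J} (hil : i ≠ l)
    (hi : (g : Matrix J J F) i j = 0) (hl : (g : Matrix J J F) l j = 0)
    (hwi : (g : Matrix J J F) i q ≠ 0) (hwy : (g : Matrix J J F) y q ≠ 0) (hyi : y ≠ i) (hyl : y ≠ l) :
    False := by
  classical
  obtain ⟨a⟩ : Nonempty (Fin 4 ↪ Fˣ) :=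
    Function.Embedding.nonempty_of_card_le (by rw [Fintype.card_fin, Fintype.card_units]; omega)
  let δ : Fin 4 → J → Fˣ := fun t => Function.update (Function.update (fun _ => (1 : Fˣ)) i (a t)) l (a t)⁻¹
  have hx : ∀ t, IsMono (g⁻¹ * monoGL 1 (δ t) * g) := fun t => by
    refine hN _ (M.mul_mem (M.mul_mem (M.inv_mem hg) (exists_diag_pair hM i l hil (a t))) hg) j
      fun k hk => ?_
    have e : (monoGL 1 (δ t) * g : GL J F).val *ᵥ Pi.single j 1 = (g : Matrix J J F) *ᵥ Pi.single j 1 := by
      funext k'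
      rw [← entry_eq, monoGL_mul_apply, one_perm_symm_apply, ← entry_eq]
      rcases eq_or_ne k' l with rfl | h1
      · rw [hl, mul_zero]
      rcases eq_or_ne k' i with rfl | h2
      · rw [hi, mul_zero]
      · simp [δ, h1, h2]
    rw [entry_eq ((g⁻¹ * monoGL 1 (δ t) * g : GL J F) : Matrix J J F) k j, mul_assoc, gl_mul_mulVec, e, gl_inv_mulVec_mulVec, Pi.single_eq_of_ne hk]
  choose π c hc using hx
  let f : Fin 4 → J := fun t => π t q
  have hcol : ∀ t k, (δ t k : F) * (g : Matrix J J F) k q = (c t q : F) * (g : Matrix J J F) k (f t) :=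
    fun t k => by rw [diag_conj_col (hc t).symm, mul_monoGL_apply]
  have hδy : ∀ t, δ t y = 1 := fun t => by simp [δ, hyi, hyl]
  have hδi : ∀ t, δ t i = a t := fun t => by simp [δ, hil]
  have hf : Function.Injective f := by
    intro t s hts
    have h1 := hcol t y
    have h2 := hcol s y
    rw [hδy, Units.val_one, one_mul] at h1 h2
    have hcs : (c t q : F) = c s q := by
      have h3 : (g : Matrix J J F) y (f t) ≠ 0 := fun e => hwy (by rw [h1, e, mul_zero])
      apply mul_right_cancel₀ h3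
      rw [← h1, hts, ← h2]
    have h4 := hcol t i
    rw [hts, hcs, ← hcol s i] at h4
    have h5 := mul_right_cancel₀ hwi h4
    rw [hδi, hδi] at h5
    exact a.injective (Units.ext h5)
  -- a linear dependence
  obtain ⟨α, hα, t₀, ht₀⟩ : ∃ α : Fin 4 → F,
      ∑ t, α t • ![(1 : F), (a t : F), ((a t : F))⁻¹] = 0 ∧ ∃ t, α t ≠ 0 := by
    refine Fintype.not_linearIndependent_iff.1 fun h => ?_
    have := h.fintype_card_le_finrank
    simp at this
  have e0 : ∑ t, α t = 0 := by
    have := congrFun hα 0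
    simpa [Finset.sum_apply] using this
  have e1 : ∑ t, α t * (a t : F) = 0 := by
    have := congrFun hα 1
    simpa [Finset.sum_apply] using this
  have e2 : ∑ t, α t * ((a t : F))⁻¹ = 0 := by
    have := congrFun hα 2
    simpa [Finset.sum_apply] using this
  have hz : ∀ k, ∑ t, α t * (δ t k : F) = 0 := by
    intro k
    rcases eq_or_ne k l with rfl | h1
    · simpa [δ] using e2
    rcases eq_or_ne k i with rfl | h2
    · simpa [δ, h1] using e1
    · simpa [δ, h1, h2] using e0
  have hzero : (g : Matrix J J F) *ᵥ (∑ t, Pi.single (f t) (α t * (c t q : F))) = (g : Matrix J J F) *ᵥ 0 := by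
    funext k
    rw [mulVec_zero, mulVec_sum, Finset.sum_apply, Pi.zero_apply]
    calc ∑ t, ((g : Matrix J J F) *ᵥ Pi.single (f t) (α t * (c t q : F))) k
        = ∑ t, α t * (δ t k : F) * (g : Matrix J J F) k q := Finset.sum_congr rfl fun t _ => by
          rw [mul_assoc, hcol, show (Pi.single (f t) (α t * (c t q : F)) : J → F) =
            (α t * (c t q : F)) • Pi.single (f t) 1 by rw [← Pi.single_smul]; simp, mulVec_smul,
            Pi.smul_apply, smul_eq_mul, ← entry_eq, mul_assoc]
      _ = 0 := by rw [← Finset.sum_mul, hz, zero_mul]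
  have h0 := congrFun (gl_mulVec_injective g hzero) (f t₀)
  rw [Finset.sum_apply, Finset.sum_eq_single t₀ (fun t _ ht => Pi.single_eq_of_ne (hf.ne ht).symm _)
    (by simp), Pi.single_eq_same, Pi.zero_apply] at h0
  exact ht₀ ((mul_eq_zero.1 h0).resolve_right (Units.ne_zero _))

/-- A column of a non-monomial element has at most one zero entry. -/
theorem NoLine.zero_unique (hJ : 5 ≤ Fintype.card J) (hq : 5 ≤ Fintype.card F) {M : Subgroup (GL J F)}
    (hM : MonoSL M) (hN : NoLine M) {g : GL J F} (hg : g ∈ M) (hgm : ¬ IsMono g) {j i l : J}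
    (hi : (g : Matrix J J F) i j = 0) (hl : (g : Matrix J J F) l j = 0) : i = l := by
  by_contra hil
  obtain ⟨q, hq'⟩ := exists_row_ne g i
  by_cases h : ∃ y, y ≠ i ∧ y ≠ l ∧ (g : Matrix J J F) y q ≠ 0
  · obtain ⟨y, hy1, hy2, hy⟩ := h
    exact hN.no_two_zero_core hq hM hg hil hi hl hq' hy hy1 hy2
  push Not at h
  obtain ⟨i', hi'i, hi'l⟩ := exists_third (show 3 ≤ Fintype.card J by omega) i l
  obtain ⟨q₂, hq₂⟩ := exists_row_ne g i'
  obtain ⟨y, hyi', hy⟩ := hN.two_le_col hM hg hgm q₂ i'
  obtain ⟨l', hl'i, hl'l, hl'i', hl'y⟩ := exists_fifth hJ i l i' y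
  exact hN.no_two_zero_core hq hM hg (Ne.symm hl'i') (h i' hi'i hi'l) (h l' hl'i hl'l) hq₂ hy hyi'
    (Ne.symm hl'y)

/-- A diagonal element of small support is not conjugated to a monomial one. -/
theorem NoLine.not_mono_conj (hJ : 5 ≤ Fintype.card J) (hq : 5 ≤ Fintype.card F)
    {M : Subgroup (GL J F)} (hM : MonoSL M) (hN : NoLine M) {g : GL J F} (hg : g ∈ M) (hgm : ¬ IsMono g)
    {δ : J → Fˣ} {s : Finset J} (hs : 2 * s.card < Fintype.card J) (hout : ∀ i, i ∉ s → δ i = 1) {p p' : J} (hpp : p ≠ p')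
    (hp : δ p ≠ 1) (hp' : δ p' ≠ 1) : ¬ IsMono (g⁻¹ * monoGL 1 δ * g) := by
  classical
  rintro ⟨π, c, hx⟩
  have hcol : ∀ t k, (δ k : F) * (g : Matrix J J F) k t = (c t : F) * (g : Matrix J J F) k (π t) :=
    fun t k => by rw [diag_conj_col hx.symm, mul_monoGL_apply]
  have hfix : ∀ t, π t ≠ t := by
    intro t ht
    have hex : ∃ k, k ∉ s ∧ (g : Matrix J J F) k t ≠ 0 := by
      by_contra! h
      have h1 : 2 ≤ sᶜ.card := by rw [Finset.card_compl]; omega
      obtain ⟨k, hk, k', hk', hne⟩ := Finset.one_lt_card.1 h1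
      exact hne (hN.zero_unique (by omega) hq hM hg hgm (h k (Finset.mem_compl.1 hk))
        (h k' (Finset.mem_compl.1 hk')))
    obtain ⟨k, hks, hk⟩ := hex
    have h1 := hcol t k
    rw [ht, hout k hks, Units.val_one] at h1
    have hc : (c t : F) = 1 := (mul_right_cancel₀ hk h1).symm
    have hall : ∀ r, δ r ≠ 1 → (g : Matrix J J F) r t = 0 := fun r hr => by
      by_contra hne
      have h2 := hcol t r
      rw [ht, hc] at h2
      exact hr (Units.ext (mul_right_cancel₀ hne h2))
    exact hpp (hN.zero_unique (by omega) hq hM hg hgm (hall p hp) (hall p' hp'))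
  obtain ⟨T, ρ, hT, hTπ⟩ : ∃ (T : Finset J) (ρ : J → ℕ), s.card < T.card ∧ ∀ t ∈ T, ρ t < ρ (π t) := by
    let e : J → ℕ := fun t => (Fintype.equivFin J t : ℕ)
    have he : ∀ t, e t < Fintype.card J := fun t => (Fintype.equivFin J t).2
    have hne : ∀ t, e t ≠ e (π t) := fun t h =>
      hfix t ((Fintype.equivFin J).injective (Fin.val_injective h)).symm
    have hsum : (Finset.univ : Finset J).card ≤ (Finset.univ.filter fun t => e t < e (π t)).card +
        (Finset.univ.filter fun t => e (π t) < e t).card := by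
      refine le_trans (Finset.card_le_card fun t _ => ?_) (Finset.card_union_le _ _)
      simp only [Finset.mem_union, Finset.mem_filter, Finset.mem_univ, true_and]
      exact lt_or_gt_of_ne (hne t)
    rw [Finset.card_univ] at hsum
    rcases le_or_gt (s.card + 1) (Finset.univ.filter fun t => e t < e (π t)).card with h | h
    · exact ⟨_, e, h, fun t ht => (Finset.mem_filter.1 ht).2⟩
    · refine ⟨Finset.univ.filter fun t => e (π t) < e t, fun t => Fintype.card J - e t, by omega, fun t ht => ?_⟩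
      have := (Finset.mem_filter.1 ht).2
      have := he t
      have := he (π t)
      show Fintype.card J - e t < Fintype.card J - e (π t)
      omega
  obtain ⟨α, hα, t₀, ht₀⟩ : ∃ α : T → F, ∑ t, α t • (fun k : s =>
      (c t : F) * (g : Matrix J J F) k (π t) - (g : Matrix J J F) k t) = 0 ∧ ∃ t, α t ≠ 0 := by
    refine Fintype.not_linearIndependent_iff.1 fun h => ?_
    have := h.fintype_card_le_finrank
    simp only [Fintype.card_coe, Module.finrank_pi] at this
    omega
  set v : J → F := ∑ t : T, α t • ((c t : F) • Pi.single (π t) 1 - Pi.single (t : J) 1) with hv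
  have hzero : (g : Matrix J J F) *ᵥ v = (g : Matrix J J F) *ᵥ 0 := by
    funext k
    rw [hv, mulVec_zero, mulVec_sum, Finset.sum_apply, Pi.zero_apply]
    simp only [mulVec_smul, mulVec_sub, Pi.smul_apply, Pi.sub_apply, smul_eq_mul, ← entry_eq]
    by_cases hk : k ∈ s
    · have := congrFun hα ⟨k, hk⟩
      simpa [Finset.sum_apply] using this
    · refine Finset.sum_eq_zero fun t _ => ?_
      rw [← hcol, hout k hk, Units.val_one, one_mul, sub_self, mul_zero]
  obtain ⟨t₁, ht₁, hmin⟩ := Finset.exists_min_image (Finset.univ.filter fun t => α t ≠ 0) (fun t => ρ t)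
    ⟨t₀, by simp [ht₀]⟩
  replace ht₀ : α t₁ ≠ 0 := (Finset.mem_filter.1 ht₁).2
  clear ht₁ t₀
  rename' t₁ => t₀
  have h0 := congrFun (gl_mulVec_injective g hzero) (t₀ : J)
  rw [hv, Finset.sum_apply, Finset.sum_eq_single t₀ (fun t _ ht => ?_) (by simp)] at h0
  · have h1 : π t₀ ≠ t₀ := hfix _
    simp [h1.symm] at h0
    exact ht₀ h0
  · by_cases hαt : α t = 0
    · simp [hαt]
    have h1 : (π t : J) ≠ t₀ := fun e => by
      have h3 := hTπ t t.2
      rw [e] at h3
      exact absurd (hmin t (Finset.mem_filter.2 ⟨Finset.mem_univ _, hαt⟩)) (not_le.2 h3)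
    have h2 : (t₀ : J) ≠ t := fun e => ht (Subtype.ext e).symm
    simp [h1.symm, h2]

end CfsgLib.GeomClasses.DecompMax
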