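import Cfsg.Agent.Lib.GeomClasses.DecompMax.LineFix
import Cfsg.Agent.Lib.GeomClasses.DecompMax.ZeroPattern

/-!
The monomial matrices of determinant one form a maximal subgroup of the special linear group in degree at
least six: in a proper overgroup a non-monomial element has no zero entry, as otherwise some
`g⁻¹ * d * g` (`d` diagonal) has a column with two zero and two non-zero entries, and some `g⁻¹ * d * g` has
a zero entry without being monomial.
-/

set_option autoImplicit false
set_option linter.unusedSimpArgs false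
set_option linter.unusedSectionVars false

namespace CfsgLib.GeomClasses.DecompMax

open Matrix
open scoped MatrixGroups

variable {J : Type} [Fintype J] [DecidableEq J] {F : Type*} [Field F] [Fintype F]

/-- Inverse transpose. -/
def invTr : GL J F →* GL J F where
  toFun x := ⟨((x⁻¹ : GL J F) : Matrix J J F)ᵀ, (x : Matrix J J F)ᵀ,
    by rw [← transpose_mul, ← Units.val_mul, mul_inv_cancel, Units.val_one, transpose_one],
    by rw [← transpose_mul, ← Units.val_mul, inv_mul_cancel, Units.val_one, transpose_one]⟩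
  map_one' := Units.ext (by simp)
  map_mul' x y := Units.ext (by
    show (((x * y)⁻¹ : GL J F) : Matrix J J F)ᵀ = _
    rw [_root_.mul_inv_rev, Units.val_mul, transpose_mul]
    rfl)

theorem invTr_invTr (x : GL J F) : invTr (invTr x) = x := by
  refine Units.ext ?_
  show (x : Matrix J J F)ᵀᵀ = _
  exact transpose_transpose _

theorem invTr_monoGL (π : Equiv.Perm J) (d : J → Fˣ) :
    invTr (monoGL π d : GL J F) = monoGL π (fun j => (d j)⁻¹) := by
  refine Units.ext ?_
  ext i j
  show monoMat π⁻¹ (fun j => (d (π.symm j))⁻¹) j i = monoMat π (fun j => (d j)⁻¹) i j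
  simp only [monoMat, of_apply]
  rcases eq_or_ne i (π j) with rfl | h
  · simp
  · rw [if_neg h, if_neg]
    rintro rfl
    simp at h

theorem invTr_det {x : GL J F} (h : (x : Matrix J J F).det = 1) :
    ((invTr x : GL J F) : Matrix J J F).det = 1 := by
  show ((x⁻¹ : GL J F) : Matrix J J F)ᵀ.det = 1
  have h1 : ((x⁻¹ : GL J F) : Matrix J J F).det * (x : Matrix J J F).det = 1 := by
    rw [← det_mul, ← Units.val_mul, inv_mul_cancel, Units.val_one, det_one]
  rw [h, mul_one] at h1
  rwa [det_transpose]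

theorem inv_mul_diag_mul_apply (g : GL J F) (d : J → Fˣ) (a k : J) :
    ((g⁻¹ * monoGL 1 d * g : GL J F) : Matrix J J F) a k =
      ∑ i, ((g⁻¹ : GL J F) : Matrix J J F) a i * (g : Matrix J J F) i k * (d i : F) := by
  rw [Units.val_mul, Matrix.mul_apply]
  refine Finset.sum_congr rfl fun i _ => ?_
  rw [mul_monoGL_apply, Equiv.Perm.one_apply]
  ring

/-- A non-monomial element has no zero entry, provided its rows and columns have at most one. -/
theorem NoLine.ne_zero (hJ : 6 ≤ Fintype.card J) (hq : 5 ≤ Fintype.card F) {M : Subgroup (GL J F)}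
    (hM : MonoSL M) (hN : NoLine M)
    (hrow : ∀ g ∈ M, ¬ IsMono g → ∀ o i l, (g : Matrix J J F) o i = 0 → (g : Matrix J J F) o l = 0 → i = l)
    {g : GL J F} (hg : g ∈ M) (hgm : ¬ IsMono g) (o k : J) : (g : Matrix J J F) o k ≠ 0 := by
  classical
  intro ho
  set G := (g : Matrix J J F) with hG
  have hcol : ∀ r, r ≠ o → G r k ≠ 0 := fun r hr h =>
    hr (hN.zero_unique (by omega) hq hM hg hgm h ho)
  have hro : ∀ m, m ≠ k → G o m ≠ 0 := fun m hm h => hm (hrow g hg hgm o m k h ho)
  obtain ⟨a, hak, -⟩ := exists_third (show 3 ≤ Fintype.card J by omega) k k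
  obtain ⟨b, hbk, hba⟩ := exists_third (show 3 ≤ Fintype.card J by omega) k a
  obtain ⟨r₀, hr₀, -⟩ := exists_third (show 3 ≤ Fintype.card J by omega) o o
  obtain ⟨r₁, hr₁, h10⟩ := exists_third (show 3 ≤ Fintype.card J by omega) o r₀
  obtain ⟨r₂, hr₂, h20, h21⟩ := exists_fourth (show 4 ≤ Fintype.card J by omega) o r₀ r₁
  obtain ⟨r₃, hr₃, h30, h31, h32⟩ := exists_fifth (show 5 ≤ Fintype.card J by omega) o r₀ r₁ r₂
  let S : Finset J := ({k, a, b} : Finset J)ᶜ
  let T : Finset J := ({r₀, r₁, r₂, r₃} : Finset J)ᶜ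
  have hS : S.card = Fintype.card J - 3 := by
    simp [S, Finset.card_compl, Ne.symm hak, Ne.symm hbk, Ne.symm hba]; omega
  have hT : T.card = Fintype.card J - 4 := by
    simp [T, Finset.card_compl, Ne.symm h10, Ne.symm h20, Ne.symm h21, Ne.symm h30, Ne.symm h31, Ne.symm h32]; omega
  obtain ⟨α, hα, i₀, hi₀⟩ : ∃ α : S → F, ∑ i, α i • (fun r : T => if (r : J) = o then G o i
      else G r i * G r₀ k - G r₀ i * G r k) = 0 ∧ ∃ i, α i ≠ 0 := by
    refine Fintype.not_linearIndependent_iff.1 fun h => ?_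
    have := h.fintype_card_le_finrank
    simp only [Fintype.card_coe, Module.finrank_pi] at this
    omega
  set w₀ : J → F := fun i => if h : i ∈ S then α ⟨i, h⟩ else 0 with hw₀
  set u := G *ᵥ w₀ with hu
  have hu' : ∀ r, u r = ∑ i : S, α i * G r i := fun r => by
    rw [hu]
    simp only [mulVec, dotProduct]
    rw [← Finset.sum_subset (Finset.subset_univ S) (fun i _ hi => by simp [hw₀, hi]),
      ← Finset.sum_coe_sort S]
    exact Finset.sum_congr rfl fun i _ => by simp [hw₀, mul_comm]
  have hmemT : ∀ r, r ≠ r₀ → r ≠ r₁ → r ≠ r₂ → r ≠ r₃ → r ∈ T := fun r e0 e1 e2 e3 => by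
    simp [T, e0, e1, e2, e3]
  have huo : u o = 0 := by
    rw [hu']
    have := congrFun hα ⟨o, hmemT o (Ne.symm hr₀) (Ne.symm hr₁) (Ne.symm hr₂) (Ne.symm hr₃)⟩
    simpa [Finset.sum_apply] using this
  have hprop : ∀ r ∈ T, r ≠ o → u r * G r₀ k = u r₀ * G r k := fun r hr hro' => by
    have := congrFun hα ⟨r, hr⟩
    simp only [Finset.sum_apply, Pi.smul_apply, smul_eq_mul, if_neg hro', Pi.zero_apply, mul_sub,
      Finset.sum_sub_distrib, ← mul_assoc, ← Finset.sum_mul, ← hu', sub_eq_zero] at this
    exact this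
  obtain ⟨c, hc⟩ := exists_avoid (s := ({-u r₀ / G r₀ k, -u r₁ / G r₁ k, -u r₂ / G r₂ k,
    -u r₃ / G r₃ k} : Finset F)) (Finset.card_le_four.trans_lt (by omega))
  simp only [Finset.mem_insert, Finset.mem_singleton, not_or] at hc
  have key : ∀ r, r ≠ o → c ≠ -u r / G r k → u r + c * G r k ≠ 0 := fun r hr hne h => hne (by
    rw [eq_div_iff (hcol r hr)]
    linear_combination h)
  have hz : ∀ r, r ≠ o → u r + c * G r k ≠ 0 := by
    intro r hr
    rcases eq_or_ne r r₀ with rfl | e0
    · exact key _ hr hc.1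
    rcases eq_or_ne r r₁ with rfl | e1
    · exact key _ hr hc.2.1
    rcases eq_or_ne r r₂ with rfl | e2
    · exact key _ hr hc.2.2.1
    rcases eq_or_ne r r₃ with rfl | e3
    · exact key _ hr hc.2.2.2
    refine key r hr fun h => hc.1 (h.trans ?_)
    rw [div_eq_div_iff (hcol r hr) (hcol r₀ hr₀)]
    linear_combination -hprop r (hmemT r e0 e1 e2 e3) hr
  set w := w₀ + c • Pi.single k 1 with hw
  have hGw : ∀ r, (G *ᵥ w) r = u r + c * G r k := fun r => by
    rw [hw, mulVec_add, mulVec_smul, Pi.add_apply, Pi.smul_apply, ← entry_eq, smul_eq_mul]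
  obtain ⟨x, hx⟩ := exists_monoGL_det_one hM 1
    (fun r => if h : r = o then 1 else Units.mk0 ((u r + c * G r k) / G r k) (div_ne_zero (hz r h) (hcol r h))) o
  set δ := Function.update
    (fun r => if h : r = o then 1 else Units.mk0 ((u r + c * G r k) / G r k) (div_ne_zero (hz r h) (hcol r h))) o x
  have hy : ∀ i, ((g⁻¹ * monoGL 1 δ * g : GL J F) : Matrix J J F) i k = w i := by
    intro i
    have e : ((monoGL 1 δ : GL J F) : Matrix J J F) *ᵥ (G *ᵥ Pi.single k 1) = G *ᵥ w := by
      funext r
      rw [monoGL_mulVec, one_perm_symm_apply, ← entry_eq, hGw]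
      rcases eq_or_ne r o with rfl | hr
      · rw [ho, huo, mul_zero, mul_zero, add_zero]
      · simp [δ, hr, div_mul_cancel₀ _ (hcol r hr)]
    rw [entry_eq ((g⁻¹ * monoGL 1 δ * g : GL J F) : Matrix J J F) i k, gl_mul_mulVec, gl_mul_mulVec, e,
      gl_inv_mulVec_mulVec]
  have hym : ¬ IsMono (g⁻¹ * monoGL 1 δ * g) := by
    rintro ⟨π, d, he⟩
    have hsupp : ∀ i, i ≠ π k → w i = 0 := fun i hi => by
      rw [← hy i, he]
      show monoMat π d i k = 0
      simp [monoMat, hi]
    refine hi₀ ?_
    have hwk : w₀ k = 0 := by simp [hw₀, S]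
    have hval : w₀ i₀ = α i₀ := by simp [hw₀]
    have hik : (i₀ : J) ≠ k := fun e => by
      have := i₀.2
      simp [S, e] at this
    rcases eq_or_ne (π k) k with hm | hm
    · have := hsupp i₀ (by rw [hm]; exact hik)
      simpa [hw, hik, hval] using this
    · have hwc : c = 0 := by
        have := hsupp k hm.symm
        simpa [hw, hwk] using this
      by_cases him : (i₀ : J) = π k
      · have h1 : (G *ᵥ w) o = G o (π k) * w (π k) := by
          simp only [mulVec, dotProduct]
          exact Finset.sum_eq_single _ (fun i _ hi => by rw [hsupp i hi, mul_zero]) (by simp)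
        rw [hGw, huo, ho, mul_zero, add_zero, eq_comm, mul_eq_zero] at h1
        have := h1.resolve_left (hro _ hm)
        simpa [hw, hwc, ← him, hval] using this
      · simpa [hw, hwc, hval] using hsupp i₀ him
  refine hba (hN.zero_unique (by omega) hq hM (M.mul_mem (M.mul_mem (M.inv_mem hg) hx) hg) hym (j := k) ?_ ?_)
  · rw [hy]; simp [hw, hw₀, S, hbk]
  · rw [hy]; simp [hw, hw₀, S, hak]

/-- The monomial matrices of determinant one are maximal. -/
theorem specialLinear_le_of_monoSL (hJ : 6 ≤ Fintype.card J) (hq : 5 ≤ Fintype.card F)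
    {M : Subgroup (GL J F)} (hM : MonoSL M) (hMS : M ≤ Cfsg.Geo.specialLinear J F) {g : GL J F}
    (hg : g ∈ M) (hgm : ¬ IsMono g) : Cfsg.Geo.specialLinear J F ≤ M := by
  classical
  by_contra hcon
  have hN : NoLine M := fun z hz p hp => by
    by_contra hzn
    exact hcon (specialLinear_le_of_fix_line (by omega) hq hM hMS hz hzn hp)
  -- the image under the inverse transpose, for the rows
  have hrow : ∀ g ∈ M, ¬ IsMono g → ∀ o i l, (g : Matrix J J F) o i = 0 → (g : Matrix J J F) o l = 0 → i = l := by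
    intro g hg hgm o i l hi hl
    let M' : Subgroup (GL J F) := M.comap invTr
    have hM' : MonoSL M' := fun π d hd => by
      show invTr (monoGL π d) ∈ M
      have h := invTr_det hd
      rw [invTr_monoGL] at h ⊢
      exact hM _ _ h
    have hMS' : M' ≤ Cfsg.Geo.specialLinear J F := fun x hx => by
      rw [mem_specialLinear, ← invTr_invTr x]
      exact invTr_det (mem_specialLinear.1 (hMS hx))
    have hN' : NoLine M' := fun z hz p hp => by
      by_contra hzn
      refine hcon fun y hy => ?_
      have h := specialLinear_le_of_fix_line (by omega) hq hM' hMS' hz hzn hp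
        (mem_specialLinear.2 (invTr_det (mem_specialLinear.1 hy)))
      rwa [Subgroup.mem_comap, invTr_invTr] at h
    refine hN'.zero_unique (g := invTr g⁻¹) (j := o) (by omega) hq hM' ?_ ?_ ?_ ?_
    · show invTr (invTr g⁻¹) ∈ M
      rw [invTr_invTr]
      exact M.inv_mem hg
    · rintro ⟨π, d, he⟩
      apply hgm
      have := congrArg invTr he
      rw [invTr_invTr, invTr_monoGL] at this
      simpa using IsMono.inv ⟨_, _, this⟩
    · show (((g⁻¹)⁻¹ : GL J F) : Matrix J J F)ᵀ i o = 0
      simpa using hi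
    · show (((g⁻¹)⁻¹ : GL J F) : Matrix J J F)ᵀ l o = 0
      simpa using hl
  have hfull : ∀ g ∈ M, ¬ IsMono g → ∀ o k, (g : Matrix J J F) o k ≠ 0 := fun g hg hgm o k =>
    hN.ne_zero hJ hq hM hrow hg hgm o k
  have : Nonempty J := Fintype.card_pos_iff.1 (by omega)
  obtain ⟨k⟩ := this
  set G := (g : Matrix J J F) with hG
  set H := ((g⁻¹ : GL J F) : Matrix J J F) with hH
  have hg0 : ∀ r, G r k ≠ 0 := fun r => hfull g hg hgm r k
  have hh0 : ∀ t r, H t r ≠ 0 := hfull g⁻¹ (M.inv_mem hg) fun h => hgm (by simpa using h.inv)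
  obtain ⟨a, b, hab, t, htk, hne⟩ : ∃ a b, a ≠ b ∧ ∃ t, t ≠ k ∧ H t a * G a k ≠ H t b * G b k := by
    by_contra! hall
    obtain ⟨r, hr, -⟩ := exists_third (show 3 ≤ Fintype.card J by omega) k k
    obtain ⟨o, hor, hok⟩ := exists_third (show 3 ≤ Fintype.card J by omega) r k
    set v : J → F := G r k • Pi.single r 1 - G k k • Pi.single k 1 with hv
    have hHv : H *ᵥ v = (H *ᵥ v) k • Pi.single k 1 := by
      funext t
      rcases eq_or_ne t k with rfl | ht
      · simp
      · rw [Pi.smul_apply, Pi.single_eq_of_ne ht, smul_zero, hv, mulVec_sub, mulVec_smul, mulVec_smul, Pi.sub_apply,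
          Pi.smul_apply, Pi.smul_apply, ← entry_eq, ← entry_eq, smul_eq_mul, smul_eq_mul]
        linear_combination hall r k hr t ht
    have hv' : v = (H *ᵥ v) k • (G *ᵥ Pi.single k 1) := by
      rw [← mulVec_smul, ← hHv]
      exact (gl_mulVec_inv_mulVec g v).symm
    have h1 := congrFun hv' o
    have h2 := congrFun hv' r
    rw [Pi.smul_apply, ← entry_eq] at h1 h2
    have hvo : v o = 0 := by simp [hv, hor, hok]
    rw [hvo, eq_comm, smul_eq_mul, mul_eq_zero] at h1
    rw [h1.resolve_right (hg0 o), zero_smul] at h2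
    exact hg0 r (by simpa [hv, hr] using h2)
  have ha0 : H t a * G a k ≠ 0 := mul_ne_zero (hh0 t a) (hg0 a)
  set ν : Fˣ := Units.mk0 (H t b * G b k / (H t a * G a k)) (div_ne_zero (mul_ne_zero (hh0 t b) (hg0 b)) ha0)
    with hν
  have hν1 : ν ≠ 1 := fun h => hne (by
    have := congrArg Units.val h
    rw [hν, Units.val_mk0, Units.val_one, div_eq_one_iff_eq ha0] at this
    exact this.symm)
  set δ := Function.update (Function.update (fun _ => (1 : Fˣ)) a ν) b ν⁻¹ with hδ
  have hyM : g⁻¹ * monoGL 1 δ * g ∈ M :=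
    M.mul_mem (M.mul_mem (M.inv_mem hg) (exists_diag_pair hM a b hab ν)) hg
  refine hfull _ hyM ?_ t k ?_
  · refine hN.not_mono_conj (by omega) hq hM hg hgm (δ := δ) (s := {a, b}) ?_ (fun i hi => ?_) hab ?_ ?_
    · rw [Finset.card_pair hab]; omega
    · simp only [Finset.mem_insert, Finset.mem_singleton, not_or] at hi
      simp [hδ, hi.1, hi.2]
    · simpa [hδ, hab] using hν1
    · simpa [hδ] using hν1
  · rw [inv_mul_diag_mul_apply]
    have h1 : ∑ i, H t i * G i k = 0 := by
      rw [← Matrix.mul_apply, ← Units.val_mul, inv_mul_cancel, Units.val_one, Matrix.one_apply_ne htk]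
    have h2 : ∀ i, H t i * G i k * (δ i : F) = H t i * G i k +
        ((if i = a then H t a * G a k * ((ν : F) - 1) else 0) +
          if i = b then H t b * G b k * ((ν : F)⁻¹ - 1) else 0) := by
      intro i
      rcases eq_or_ne i a with rfl | hia
      · simp [hδ, hab]; ring
      rcases eq_or_ne i b with rfl | hib
      · simp [hδ, hia]; ring
      · simp [hδ, hia, hib]
    rw [Finset.sum_congr rfl fun i _ => h2 i, Finset.sum_add_distrib, Finset.sum_add_distrib, h1,
      Finset.sum_ite_eq' Finset.univ a, Finset.sum_ite_eq' Finset.univ b, if_pos (Finset.mem_univ _),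
      if_pos (Finset.mem_univ _)]
    have hb0 : H t b * G b k ≠ 0 := mul_ne_zero (hh0 t b) (hg0 b)
    rw [hν, Units.val_mk0, inv_div]
    generalize H t a * G a k = A at ha0 ⊢
    generalize H t b * G b k = B at hb0 ⊢
    field_simp
    ring

end CfsgLib.GeomClasses.DecompMax
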