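import Cfsg.Agent.Lib.GeomClasses.DecompMax.Mono

/-! From transvections to root elements, given the monomial matrices. -/

set_option autoImplicit false
set_option linter.unusedSimpArgs false
set_option linter.unusedSectionVars false

namespace CfsgLib.GeomClasses.DecompMax

open Matrix
open scoped MatrixGroups

variable {J : Type} [Fintype J] [DecidableEq J] {F : Type*} [Field F] [Fintype F]

theorem exists_avoid {s : Finset F} (h : s.card < Fintype.card F) : ∃ x : F, x ∉ s :=
  by
  by_contra! hall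
  have h1 : (Finset.univ : Finset F) ⊆ s := fun x _ => hall x
  exact absurd ((Finset.card_le_card h1).trans_lt h) (by simp)

@[simp] theorem one_perm_symm_apply {α : Type} (i : α) : (1 : Equiv.Perm α).symm i = i := rfl

theorem exists_unit_ne_one (hq : 3 ≤ Fintype.card F) : ∃ x : Fˣ, (x : F) ≠ 1 := by
  classical
  obtain ⟨x, hx⟩ := exists_avoid (s := ({0, 1} : Finset F)) (Finset.card_le_two.trans_lt hq)
  simp only [Finset.mem_insert, Finset.mem_singleton, not_or] at hx
  exact ⟨Units.mk0 x hx.1, hx.2⟩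

theorem tv_sub_left {M : Subgroup (GL J F)} {v w φ : J → F} (hv : φ ⬝ᵥ v = 0) (hw : φ ⬝ᵥ w = 0)
    (h1 : tv v φ ∈ M) (h2 : tv w φ ∈ M) : tv (v - w) φ ∈ M := by
  have h := M.mul_mem h1 (M.inv_mem h2)
  rwa [tv_inv hw, tv_mul_tv_left hv (by simp [hw]), ← sub_eq_add_neg] at h

theorem tv_sub_right {M : Subgroup (GL J F)} {v φ ψ : J → F} (hφ : φ ⬝ᵥ v = 0) (hψ : ψ ⬝ᵥ v = 0)
    (h1 : tv v φ ∈ M) (h2 : tv v ψ ∈ M) : tv v (φ - ψ) ∈ M := by
  have h := M.mul_mem h1 (M.inv_mem h2)
  rw [tv_inv hψ, show -v = (-1 : F) • v by simp, tv_smul_comm hψ, tv_mul_tv_right hφ (by simp [hψ]),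
    neg_one_smul, ← sub_eq_add_neg] at h
  exact h

/-- Conjugate of a transvection by a monomial element. -/
theorem mono_conj_tv {M : Subgroup (GL J F)} {π : Equiv.Perm J} {d : J → Fˣ} {v φ : J → F}
    (hd : monoGL π d ∈ M) (h : φ ⬝ᵥ v = 0) (ht : tv v φ ∈ M) :
    tv (fun i => (d (π.symm i) : F) * v (π.symm i))
      (fun i => φ (π.symm i) * ((d (π.symm i) : F))⁻¹) ∈ M ∧
    (fun i => φ (π.symm i) * ((d (π.symm i) : F))⁻¹) ⬝ᵥ
      (fun i => (d (π.symm i) : F) * v (π.symm i)) = 0 := by
  constructor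
  · have h1 := M.mul_mem (M.mul_mem hd ht) (M.inv_mem hd)
    rw [conj_tv _ h] at h1
    convert h1 using 2
    · funext i; rw [monoGL_mulVec]
    · funext i
      rw [monoGL_inv, monoGL_vecMul]
      simp [Equiv.Perm.inv_def]
  · rw [← h]
    simp only [dotProduct]
    rw [← Equiv.sum_comp π]
    refine Finset.sum_congr rfl fun i _ => ?_
    have := (d i).ne_zero
    simp
    field_simp

/-- A diagonal element of determinant one supported at two indices. -/
theorem exists_diag_pair {M : Subgroup (GL J F)} (hM : MonoSL M) (b l : J) (hbl : b ≠ l) (x : Fˣ) :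
    monoGL (1 : Equiv.Perm J) (Function.update (Function.update (fun _ => (1 : Fˣ)) b x) l x⁻¹) ∈ M := by
  apply hM
  rw [monoGL_det, ← Finset.mul_prod_erase Finset.univ _ (Finset.mem_univ b),
    ← Finset.mul_prod_erase (Finset.univ.erase b) _ (Finset.mem_erase.2 ⟨Ne.symm hbl, Finset.mem_univ l⟩),
    Finset.prod_eq_one fun j hj => by
      simp only [Finset.mem_erase] at hj
      rw [Function.update_of_ne hj.1, Function.update_of_ne hj.2.1, Units.val_one]]
  rw [Function.update_of_ne hbl, Function.update_self, Function.update_self]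
  simp

theorem root_of_left (hJ : 4 ≤ Fintype.card J) (hq : 3 ≤ Fintype.card F) {M : Subgroup (GL J F)}
    (hM : MonoSL M) {a : J} {c : F} {φ : J → F} (hc : c ≠ 0) (hφ : φ ≠ 0) (hφa : φ a = 0)
    (ht : tv (Pi.single a c) φ ∈ M) : Cfsg.Geo.specialLinear J F ≤ M := by
  classical
  obtain ⟨x, hx⟩ := exists_unit_ne_one hq
  obtain ⟨b, hb⟩ := Function.ne_iff.1 hφ
  have hab : a ≠ b := fun e => hb (e ▸ hφa)
  obtain ⟨l, hla, hlb⟩ := exists_third (show 3 ≤ Fintype.card J by omega) a b
  obtain ⟨o, hoa, hob, hol⟩ := exists_fourth hJ a b l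
  -- one step
  have step : ∀ (l : J), l ≠ a → l ≠ b → ∀ φ : J → F, φ a = 0 → tv (Pi.single a c) φ ∈ M →
      tv (Pi.single a c) (fun i => if i = b then ((x : F)⁻¹ - 1) * φ b
        else if i = l then ((x : F) - 1) * φ l else 0) ∈ M := by
    intro l hla hlb φ hφa ht
    have h0 : φ ⬝ᵥ Pi.single a c = 0 := by simp [hφa]
    obtain ⟨h1, h1'⟩ := mono_conj_tv (exists_diag_pair hM b l (Ne.symm hlb) x) h0 ht
    have e : (fun i => ((Function.update (Function.update (fun _ => (1 : Fˣ)) b x) l x⁻¹ ((1 : Equiv.Perm J).symm i) : Fˣ) : F) *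
        (Pi.single a c : J → F) ((1 : Equiv.Perm J).symm i)) = Pi.single a c := by
      funext i
      rcases eq_or_ne i a with rfl | hi
      · simp [Function.update_of_ne (Ne.symm hla), Function.update_of_ne hab]
      · simp [hi]
    rw [e] at h1 h1'
    have h2 := tv_sub_right h1' h0 h1 ht
    convert h2 using 2
    funext i
    rcases eq_or_ne i l with rfl | hil
    · simp [hlb]; ring
    rcases eq_or_ne i b with rfl | hib
    · simp [Function.update_of_ne hil]; ring
    · simp [Function.update_of_ne hil, Function.update_of_ne hib, hil, hib]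
  have h2 := step o hoa hob _ (by simp [hab, Ne.symm hla]) (step l hla hlb φ hφa ht)
  have hxi : ((x : F))⁻¹ - 1 ≠ 0 := sub_ne_zero.2 fun e => hx (inv_eq_one.1 e)
  set c' := ((x : F)⁻¹ - 1) * (((x : F)⁻¹ - 1) * φ b) with hc'
  have e : (fun i => if i = b then ((x : F)⁻¹ - 1) * (if b = b then ((x : F)⁻¹ - 1) * φ b
      else if b = l then ((x : F) - 1) * φ l else 0)
        else if i = o then ((x : F) - 1) * (if o = b then ((x : F)⁻¹ - 1) * φ b
          else if o = l then ((x : F) - 1) * φ l else 0) else 0) = c' • (Pi.single b (1 : F) : J → F) := by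
    funext i
    rcases eq_or_ne i b with rfl | hib
    · simp [hc']
    · simp [hib, hob, hol]
  rw [e, ← tv_smul_comm (by simp [hab, Ne.symm hab]),
    show c' • (Pi.single a c : J → F) = Pi.single a (c' * c) by rw [← Pi.single_smul]; rfl] at h2
  exact specialLinear_le_of_root (by omega) hM hab (mul_ne_zero (mul_ne_zero hxi (mul_ne_zero hxi hb)) hc) h2

theorem root_of_right (hJ : 4 ≤ Fintype.card J) (hq : 3 ≤ Fintype.card F) {M : Subgroup (GL J F)}
    (hM : MonoSL M) {b : J} {c : F} {w : J → F} (hc : c ≠ 0) (hw : w ≠ 0) (hwb : w b = 0)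
    (ht : tv w (Pi.single b c) ∈ M) : Cfsg.Geo.specialLinear J F ≤ M := by
  classical
  obtain ⟨x, hx⟩ := exists_unit_ne_one hq
  obtain ⟨a, ha⟩ := Function.ne_iff.1 hw
  have hab : a ≠ b := fun e => ha (e ▸ hwb)
  obtain ⟨l, hla, hlb⟩ := exists_third (show 3 ≤ Fintype.card J by omega) a b
  obtain ⟨o, hoa, hob, hol⟩ := exists_fourth hJ a b l
  have step : ∀ (l : J), l ≠ a → l ≠ b → ∀ w : J → F, w b = 0 → tv w (Pi.single b c) ∈ M →
      tv (fun i => if i = a then ((x : F) - 1) * w a
        else if i = l then ((x : F)⁻¹ - 1) * w l else 0) (Pi.single b c) ∈ M := by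
    intro l hla hlb w hwb ht
    have h0 : (Pi.single b c : J → F) ⬝ᵥ w = 0 := by simp [hwb]
    obtain ⟨h1, h1'⟩ := mono_conj_tv (exists_diag_pair hM a l (Ne.symm hla) x) h0 ht
    have e : (fun i => (Pi.single b c : J → F) ((1 : Equiv.Perm J).symm i) *
        (((Function.update (Function.update (fun _ => (1 : Fˣ)) a x) l x⁻¹ ((1 : Equiv.Perm J).symm i) : Fˣ) : F))⁻¹) =
          Pi.single b c := by
      funext i
      rcases eq_or_ne i b with rfl | hi
      · simp [Function.update_of_ne (Ne.symm hlb), Function.update_of_ne (Ne.symm hab)]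
      · simp [hi]
    rw [e] at h1 h1'
    have h2 := tv_sub_left h1' h0 h1 ht
    convert h2 using 2
    funext i
    rcases eq_or_ne i l with rfl | hil
    · simp [hla]; ring
    rcases eq_or_ne i a with rfl | hia
    · simp [Function.update_of_ne hil]; ring
    · simp [Function.update_of_ne hil, Function.update_of_ne hia, hil, hia]
  have h2 := step o hoa hob _ (by simp [Ne.symm hab, Ne.symm hlb]) (step l hla hlb w hwb ht)
  have hx1 : (x : F) - 1 ≠ 0 := sub_ne_zero.2 hx
  set c' := ((x : F) - 1) * (((x : F) - 1) * w a) with hc'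
  have e : (fun i => if i = a then ((x : F) - 1) * (if a = a then ((x : F) - 1) * w a
      else if a = l then ((x : F)⁻¹ - 1) * w l else 0)
        else if i = o then ((x : F)⁻¹ - 1) * (if o = a then ((x : F) - 1) * w a
          else if o = l then ((x : F)⁻¹ - 1) * w l else 0) else 0) = Pi.single a c' := by
    funext i
    rcases eq_or_ne i a with rfl | hia
    · simp [hc']
    · simp [hia, hoa, hol]
  rw [e, show (Pi.single b c : J → F) = c • Pi.single b (1 : F) by rw [← Pi.single_smul]; simp,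
    ← tv_smul_comm (by simp [hab, Ne.symm hab]),
    show c • (Pi.single a c' : J → F) = Pi.single a (c * c') by rw [← Pi.single_smul]; rfl] at h2
  exact specialLinear_le_of_root (by omega) hM hab (mul_ne_zero hc (mul_ne_zero hx1 (mul_ne_zero hx1 ha))) h2

/-- All monomial elements. -/
def MonoAll (K : Subgroup (GL J F)) : Prop := ∀ π d, monoGL π d ∈ K

theorem MonoAll.monoSL {K : Subgroup (GL J F)} (hK : MonoAll K) : MonoSL K := fun π d _ => hK π d

theorem root_of_split_left (hJ : 4 ≤ Fintype.card J) (hq : 3 ≤ Fintype.card F) {K : Subgroup (GL J F)}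
    (hK : MonoAll K) {w φ : J → F} (h0 : φ ⬝ᵥ w = 0) (ht : tv w φ ∈ K) (hφ : φ ≠ 0) {k : J}
    (hwk : w k ≠ 0) (hφk : φ k = 0) : Cfsg.Geo.specialLinear J F ≤ K := by
  classical
  obtain ⟨x, hx⟩ := exists_unit_ne_one hq
  obtain ⟨h1, h1'⟩ := mono_conj_tv (hK 1 (Function.update (fun _ => (1 : Fˣ)) k x)) h0 ht
  have e : (fun i => φ ((1 : Equiv.Perm J).symm i) *
      (((Function.update (fun _ => (1 : Fˣ)) k x ((1 : Equiv.Perm J).symm i) : Fˣ) : F))⁻¹) = φ := by
    funext i
    rcases eq_or_ne i k with rfl | hi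
    · simp [hφk]
    · simp [Function.update_of_ne hi]
  rw [e] at h1 h1'
  have h2 := tv_sub_left h1' h0 h1 ht
  refine root_of_left hJ hq hK.monoSL (c := ((x : F) - 1) * w k)
    (mul_ne_zero (sub_ne_zero.2 hx) hwk) hφ hφk ?_
  convert h2 using 2
  funext i
  rcases eq_or_ne i k with rfl | hi
  · simp; ring
  · simp [Function.update_of_ne hi, hi]

theorem root_of_split_right (hJ : 4 ≤ Fintype.card J) (hq : 3 ≤ Fintype.card F) {K : Subgroup (GL J F)}
    (hK : MonoAll K) {w φ : J → F} (h0 : φ ⬝ᵥ w = 0) (ht : tv w φ ∈ K) (hw : w ≠ 0) {k : J}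
    (hwk : w k = 0) (hφk : φ k ≠ 0) : Cfsg.Geo.specialLinear J F ≤ K := by
  classical
  obtain ⟨x, hx⟩ := exists_unit_ne_one hq
  obtain ⟨h1, h1'⟩ := mono_conj_tv (hK 1 (Function.update (fun _ => (1 : Fˣ)) k x)) h0 ht
  have e : (fun i => (((Function.update (fun _ => (1 : Fˣ)) k x ((1 : Equiv.Perm J).symm i) : Fˣ) : F)) *
      w ((1 : Equiv.Perm J).symm i)) = w := by
    funext i
    rcases eq_or_ne i k with rfl | hi
    · simp [hwk]
    · simp [Function.update_of_ne hi]
  rw [e] at h1 h1'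
  have h2 := tv_sub_right h1' h0 h1 ht
  refine root_of_right hJ hq hK.monoSL (c := ((x : F)⁻¹ - 1) * φ k)
    (mul_ne_zero (sub_ne_zero.2 fun e => hx (inv_eq_one.1 e)) hφk) hw hwk ?_
  convert h2 using 2
  funext i
  rcases eq_or_ne i k with rfl | hi
  · simp; ring
  · simp [Function.update_of_ne hi, hi]

end CfsgLib.GeomClasses.DecompMax
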