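import Cfsg.Agent.Lib.GeomClasses.DecompMax.Mono

/-! Vectors without zero entries solving one or two linear equations. -/

set_option autoImplicit false
set_option linter.unusedSimpArgs false
set_option linter.unusedSectionVars false

namespace CfsgLib.GeomClasses.DecompMax

variable {F : Type*} [Field F] [Fintype F]

theorem exists_not_mem_finset {s : Finset F} (h : s.card < Fintype.card F) : ∃ x : F, x ∉ s := by
  by_contra! hall
  exact absurd ((Finset.card_le_card (fun x _ => hall x : (Finset.univ : Finset F) ⊆ s)).trans_lt h)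
    (by simp)

/-- Non-constant vectors without zero entries, with sum zero and prescribed product. -/
theorem exists_sum_zero_prod (hq : 4 ≤ Fintype.card F) {n : ℕ} (hn : 7 ≤ n) {P : F} (hP : P ≠ 0) :
    ∃ f : Fin n → F, (∀ i, f i ≠ 0) ∧ ∑ i, f i = 0 ∧ ∏ i, f i = P ∧ ∃ i j, f i ≠ f j := by
  classical
  obtain ⟨t, ht⟩ := exists_not_mem_finset (s := ({0, -1, 1} : Finset F))
    (Finset.card_le_three.trans_lt (by omega))
  simp only [Finset.mem_insert, Finset.mem_singleton, not_or] at ht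
  have ht1 : 1 + t ≠ 0 := fun e => ht.2.1 (eq_neg_of_add_eq_zero_right e)
  let Good : ℕ → Prop := fun n => ∀ P : F, P ≠ 0 → ∃ f : Fin n → F,
    (∀ i, f i ≠ 0) ∧ ∑ i, f i = 0 ∧ ∏ i, f i = P ∧ ∃ i j, f i ≠ f j
  have step : ∀ n, Good n → Good (n + 2) := by
    intro n h P hP
    obtain ⟨f, hf0, hfs, hfp, i, j, hij⟩ := h (-P) (neg_ne_zero.2 hP)
    refine ⟨Fin.cons 1 (Fin.cons (-1) f), Fin.cases one_ne_zero (Fin.cases (by simp) hf0), ?_, ?_,
      i.succ.succ, j.succ.succ, by simpa using hij⟩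
    · simp [Fin.sum_univ_succ, hfs]
    · simp [Fin.prod_univ_succ, hfp]
  have base5 : Good 5 := by
    intro P hP
    set e := P / (t * (1 + t)) with he
    have he0 : e ≠ 0 := div_ne_zero hP (mul_ne_zero ht.1 ht1)
    refine ⟨![e, e * t, -(e * (1 + t)), e⁻¹, -e⁻¹], ?_, ?_, ?_, 0, 1, ?_⟩
    · intro i
      fin_cases i <;> simp [he0, ht.1, ht1]
    · simp [Fin.sum_univ_succ]; ring
    · simp [Fin.prod_univ_succ]
      have hP' : P = e * (t * (1 + t)) := by
        rw [he, div_mul_cancel₀ P (mul_ne_zero ht.1 ht1)]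
      rw [hP']
      field_simp
    · simp [he0]
      exact ht.2.2
  have base8 : Good 8 := by
    intro P hP
    set e := -P / (t * (1 + t)) ^ 2 with he
    have hK : (t * (1 + t)) ^ 2 ≠ 0 := pow_ne_zero _ (mul_ne_zero ht.1 ht1)
    have he0 : e ≠ 0 := div_ne_zero (neg_ne_zero.2 hP) hK
    refine ⟨![e, e * t, -(e * (1 + t)), 1, t, -(1 + t), e⁻¹, -e⁻¹], ?_, ?_, ?_, 0, 1, ?_⟩
    · intro i
      fin_cases i
      all_goals first
        | simp [he0, ht.1, ht1]; done
        | (simp; intro h; exact ht1 (by linear_combination -h))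
    · simp [Fin.sum_univ_succ]; ring
    · simp [Fin.prod_univ_succ]
      have hP' : P = -(e * (t * (1 + t)) ^ 2) := by rw [he, div_mul_cancel₀ _ hK, neg_neg]
      rw [hP']
      field_simp
      ring
    · simp [he0]
      exact ht.2.2
  have hall : ∀ k, Good (5 + 2 * k) ∧ Good (8 + 2 * k) := by
    intro k
    induction k with
    | zero => exact ⟨base5, base8⟩
    | succ k ih => exact ⟨step _ ih.1, step _ ih.2⟩
  rcases Nat.even_or_odd n with ⟨k, hk⟩ | ⟨k, hk⟩
  · have := (hall (k - 4)).2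
    rw [show 8 + 2 * (k - 4) = n by omega] at this
    exact this P hP
  · have := (hall (k - 2)).1
    rw [show 5 + 2 * (k - 2) = n by omega] at this
    exact this P hP

variable {J : Type} [Fintype J] [DecidableEq J]

/-- Two solutions of two equations, differing in at most three places. -/
theorem exists_two_solutions (hq : 5 ≤ Fintype.card F) {φ ψ : J → F}
    (hgood : ∀ α β : F, (α ≠ 0 ∨ β ≠ 0) → ∀ p, ∃ i, i ≠ p ∧ α * φ i + β * ψ i ≠ 0) (i₀ : J) :
    ∃ x y : J → Fˣ, ∃ s : Finset J, s.card ≤ 3 ∧ (∀ i, i ∉ s → x i = y i) ∧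
      (∃ i, x i ≠ y i ∧ (φ i ≠ 0 ∨ ψ i ≠ 0)) ∧
      (∑ i, φ i * (x i : F) = 0 ∧ ∑ i, ψ i * (x i : F) = 0) ∧
      (∑ i, φ i * (y i : F) = 0 ∧ ∑ i, ψ i * (y i : F) = 0) := by
  classical
  obtain ⟨p, -, hp⟩ : ∃ p, p = p ∧ φ p ≠ 0 := by
    obtain ⟨i, -, hi⟩ := hgood 1 0 (Or.inl one_ne_zero) i₀
    exact ⟨i, rfl, by simpa using hi⟩
  set s₁ := ψ p / φ p with hs₁
  set B : J → F := fun i => ψ i - s₁ * φ i with hB
  have hBp : B p = 0 := by simp [hB, hs₁, hp]
  obtain ⟨q, hqp, hBq⟩ : ∃ q, q ≠ p ∧ B q ≠ 0 := by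
    obtain ⟨i, hi, h⟩ := hgood (-s₁) 1 (Or.inr one_ne_zero) p
    exact ⟨i, hi, fun e => h (by linear_combination e)⟩
  set t₁ := φ q / B q with ht₁
  set A : J → F := fun i => φ i - t₁ * B i with hA
  have hAq : A q = 0 := by simp [hA, ht₁, hBq]
  have hAp : A p ≠ 0 := by simp [hA, hBp, hp]
  obtain ⟨c, hcp, hAc⟩ : ∃ c, c ≠ p ∧ A c ≠ 0 := by
    obtain ⟨i, hi, h⟩ := hgood (1 + t₁ * s₁) (-t₁) (by
      by_cases h : t₁ = 0
      · left; simp [h]
      · right; simpa using h) p
    exact ⟨i, hi, fun e => h (by linear_combination e)⟩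
  obtain ⟨c', hcq', hBc'⟩ : ∃ c, c ≠ q ∧ B c ≠ 0 := by
    obtain ⟨i, hi, h⟩ := hgood (-s₁) 1 (Or.inr one_ne_zero) q
    exact ⟨i, hi, fun e => h (by linear_combination e)⟩
  have hcq : c ≠ q := fun e => hAc (e ▸ hAq)
  have hcp' : c' ≠ p := fun e => hBc' (e ▸ hBp)
  set R := (Finset.univ.erase p).erase q with hR
  have hmem : ∀ i, i ∈ R ↔ i ≠ q ∧ i ≠ p := fun i => by simp [hR]
  let L : (J → F) → (J → F) → F := fun f z => ∑ i ∈ R, f i * z i
  have hLu : ∀ (f z : J → F) (i : J) (u : F), i ∈ R →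
      L f (Function.update z i u) = L f z + f i * (u - z i) := by
    intro f z i u hi
    simp only [L]
    rw [← Finset.add_sum_erase R _ hi, ← Finset.add_sum_erase R (fun j => f j * z j) hi,
      Function.update_self, Finset.sum_congr rfl fun j hj => by
        rw [Function.update_of_ne (Finset.ne_of_mem_erase hj)]]
    ring
  -- completing a partial vector to a solution
  have complete : ∀ z : J → F, (∀ i, z i ≠ 0) → L A z ≠ 0 → L B z ≠ 0 → ∃ x : J → Fˣ,
      (∀ i, i ≠ p → i ≠ q → (x i : F) = z i) ∧ ∑ i, φ i * (x i : F) = 0 ∧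
        ∑ i, ψ i * (x i : F) = 0 := by
    intro z hz hLA hLB
    set x : J → Fˣ := fun i => if i = p then Units.mk0 (-(L A z) / A p) (div_ne_zero (neg_ne_zero.2 hLA) hAp)
      else if i = q then Units.mk0 (-(L B z) / B q) (div_ne_zero (neg_ne_zero.2 hLB) hBq)
      else Units.mk0 (z i) (hz i) with hx
    have hsum : ∀ f : J → F, ∑ i, f i * (x i : F) = f p * (-(L A z) / A p) + (f q * (-(L B z) / B q) + L f z) := by
      intro f
      rw [← Finset.add_sum_erase Finset.univ _ (Finset.mem_univ p),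
        ← Finset.add_sum_erase (Finset.univ.erase p) _ (Finset.mem_erase.2 ⟨hqp, Finset.mem_univ q⟩)]
      congr 1
      · simp [hx]
      congr 1
      · simp [hx, hqp]
      · refine Finset.sum_congr rfl fun i hi => ?_
        simp [hx, ((hmem i).1 hi).1, ((hmem i).1 hi).2]
    have hA0 : ∑ i, A i * (x i : F) = 0 := by
      rw [hsum, hAq]; field_simp; ring
    have hB0 : ∑ i, B i * (x i : F) = 0 := by
      rw [hsum, hBp]; field_simp; ring
    have hφ0 : ∑ i, φ i * (x i : F) = 0 := by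
      calc ∑ i, φ i * (x i : F) = ∑ i, (A i * (x i : F) + t₁ * (B i * (x i : F))) :=
            Finset.sum_congr rfl fun i _ => by simp only [hA]; ring
        _ = 0 := by rw [Finset.sum_add_distrib, ← Finset.mul_sum, hA0, hB0, mul_zero, add_zero]
    refine ⟨x, fun i h1 h2 => by simp [hx, h1, h2], hφ0, ?_⟩
    calc ∑ i, ψ i * (x i : F) = ∑ i, (B i * (x i : F) + s₁ * (φ i * (x i : F))) :=
          Finset.sum_congr rfl fun i _ => by simp only [hB]; ring
      _ = 0 := by rw [Finset.sum_add_distrib, ← Finset.mul_sum, hB0, hφ0, mul_zero, add_zero]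
  -- two choices at `c`
  have hcR : c ∈ R := (hmem c).2 ⟨hcq, hcp⟩
  have finish : ∀ z : J → F, (∀ i, z i ≠ 0) → ∀ r₁ r₂ : F,
      (∀ u, u ≠ r₁ → L A (Function.update z c u) ≠ 0) →
      (∀ u, u ≠ r₂ → L B (Function.update z c u) ≠ 0) →
      ∃ x y : J → Fˣ, ∃ s : Finset J, s.card ≤ 3 ∧ (∀ i, i ∉ s → x i = y i) ∧
        (∃ i, x i ≠ y i ∧ (φ i ≠ 0 ∨ ψ i ≠ 0)) ∧
        (∑ i, φ i * (x i : F) = 0 ∧ ∑ i, ψ i * (x i : F) = 0) ∧
        (∑ i, φ i * (y i : F) = 0 ∧ ∑ i, ψ i * (y i : F) = 0) := by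
    intro z hz r₁ r₂ hr₁ hr₂
    obtain ⟨u, hu⟩ := exists_not_mem_finset (s := ({0, r₁, r₂} : Finset F))
      (Finset.card_le_three.trans_lt (by omega))
    obtain ⟨u', hu'⟩ := exists_not_mem_finset (s := ({0, r₁, r₂, u} : Finset F))
      (Finset.card_le_four.trans_lt (by omega))
    simp only [Finset.mem_insert, Finset.mem_singleton, not_or] at hu hu'
    have hz' : ∀ w, w ≠ 0 → ∀ i, Function.update z c w i ≠ 0 := fun w hw i => by
      rcases eq_or_ne i c with rfl | hi
      · simpa using hw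
      · simpa [hi] using hz i
    obtain ⟨x, hx, hxs⟩ := complete _ (hz' u hu.1) (hr₁ u hu.2.1) (hr₂ u hu.2.2)
    obtain ⟨y, hy, hys⟩ := complete _ (hz' u' hu'.1) (hr₁ u' hu'.2.1) (hr₂ u' hu'.2.2.1)
    refine ⟨x, y, {c, p, q}, Finset.card_le_three, fun i hi => ?_, ⟨c, fun e => ?_, ?_⟩, hxs, hys⟩
    · simp only [Finset.mem_insert, Finset.mem_singleton, not_or] at hi
      apply Units.ext
      rw [hx i hi.2.1 hi.2.2, hy i hi.2.1 hi.2.2, Function.update_of_ne hi.1, Function.update_of_ne hi.1]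
    · have h1 := hx c hcp hcq
      rw [e, hy c hcp hcq, Function.update_self, Function.update_self] at h1
      exact hu'.2.2.2 h1
    · by_contra! h
      exact hAc (by simp [hA, hB, h.1, h.2])
  by_cases hBc : B c = 0
  · -- first make the second form non-zero
    have hcR' : c' ∈ R := (hmem c').2 ⟨hcq', hcp'⟩
    set z₀ : J → F := fun _ => 1 with hz₀
    obtain ⟨u, hu⟩ := exists_not_mem_finset (s := ({0, 1 - L B z₀ / B c'} : Finset F))
      (Finset.card_le_two.trans_lt (by omega))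
    simp only [Finset.mem_insert, Finset.mem_singleton, not_or] at hu
    set z := Function.update z₀ c' u with hzdef
    have hz : ∀ i, z i ≠ 0 := fun i => by
      rcases eq_or_ne i c' with rfl | hi
      · simpa [hzdef] using hu.1
      · simp [hzdef, hi, hz₀]
    refine finish z hz (z c - L A z / A c) 0 (fun w hw h => hw ?_) (fun w _ h => hu.2 ?_)
    · rw [hLu A z c w hcR] at h
      field_simp
      linear_combination h
    · rw [hLu B z c w hcR, hBc, zero_mul, add_zero, hzdef, hLu B z₀ c' u hcR'] at h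
      simp only [hz₀] at h ⊢
      field_simp
      linear_combination h
  · set z : J → F := fun _ => 1 with hzdef
    refine finish z (fun _ => one_ne_zero) (z c - L A z / A c) (z c - L B z / B c)
      (fun w hw h => hw ?_) (fun w hw h => hw ?_) <;>
    · rw [hLu _ z c w hcR] at h
      field_simp
      linear_combination h

end CfsgLib.GeomClasses.DecompMax
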